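import Groth.Agent.Lib.CycPush.Finite
import Groth.Agent.Lib.CycBasic.Push
import Groth.Agent.Lib.CurveRR.Places
import Groth.Agent.Lib.Zeta.Points
import Groth.Agent.Lib.FunFld.Riemann
import Groth.Agent.Lib.Japanese.Curve
import Groth.Agent.Lib.Ref1.SecOrd
import Groth.Agent.Lib.CurvePoints.Basic
import Mathlib.AlgebraicGeometry.Morphisms.Affine

/-!
Principal divisors on proper curves have degree zero; divisors and preimmersions.
-/

set_option autoImplicit false
universe u

open CategoryTheory AlgebraicGeometry IsLocalRing GrothLib.CycDiv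

namespace GrothLib.CycPush

section preimmersion

variable {X Y C : Scheme.{u}} (j : C ⟶ X)

theorem residueFieldMap_bijective [SurjectiveOnStalks j] (c : C) :
    Function.Bijective (j.residueFieldMap c).hom :=
  ⟨(j.residueFieldMap c).hom.injective, fun z => by
    obtain ⟨w, rfl⟩ := C.residue_surjective c z
    obtain ⟨v, rfl⟩ := j.stalkMap_surjective c w
    exact ⟨X.residue (j c) v, congr($(Scheme.residue_residueFieldMap j c).hom v)⟩⟩

theorem residueDegree_eq_one {c : C} (h : Function.Surjective (j.residueFieldMap c).hom) :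
    j.residueDegree c = 1 := by
  unfold Scheme.Hom.residueDegree
  letI := (j.residueFieldMap c).hom.toAlgebra
  refine finrank_eq_one (1 : C.residueField c) one_ne_zero fun z => ?_
  obtain ⟨w, hw⟩ := h z
  refine ⟨w, ?_⟩
  rw [Algebra.smul_def, mul_one]
  exact hw

theorem normGen_residueFieldMap {c : C} (h : Function.Surjective (j.residueFieldMap c).hom)
    (g : X.residueField (j c)) : Cyc.normGen j c (j.residueFieldMap c g) = g := by
  have h1 := residueDegree_eq_one j h
  unfold Scheme.Hom.residueDegree at h1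
  letI := (j.residueFieldMap c).hom.toAlgebra
  show Algebra.norm (X.residueField (j c)) (algebraMap (X.residueField (j c)) (C.residueField c) g) = g
  rw [Algebra.norm_algebraMap, h1, pow_one]

theorem deltaCompat_comp [SurjectiveOnStalks j] (δ : X → ℤ) : Cyc.DeltaCompat j (δ ∘ j) δ := fun c =>
  ⟨0, by
    rw [Nat.cast_zero]
    exact resTrdeg_finite j (RingHom.Finite.of_surjective _ (residueFieldMap_bijective j c).2), by simp⟩

theorem mapCoeff_comp_eq [SurjectiveOnStalks j] (p : X ⟶ Y) (δ : X → ℤ) (δY : Y → ℤ) (c : C) :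
    AlgebraicCycle.mapCoeff (j ≫ p) (δ ∘ j) δY c = AlgebraicCycle.mapCoeff p δ δY (j c) := by
  unfold AlgebraicCycle.mapCoeff
  rw [GrothLib.CycBasic.residueDegree_comp, residueDegree_eq_one j (residueFieldMap_bijective j c).2, mul_one]
  rfl

theorem isDimFun_comp [IsPreimmersion j] {δ : X → ℤ} (hδ : Cyc.IsDimFun X δ)
    (hj : ∀ a b : C, ∀ z : X, j a ⤳ z → z ⤳ j b → z ∈ Set.range j) : Cyc.IsDimFun C (δ ∘ j) := by
  intro a b hab hne
  obtain ⟨h1, h2⟩ := hδ (j a) (j b) (hab.map j.continuous) fun e => hne (j.isEmbedding.injective e)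
  refine ⟨h1, fun h => h2 fun z ha hb => ?_⟩
  obtain ⟨w, rfl⟩ := hj a b z ha hb
  exact (h w (j.isEmbedding.isInducing.specializes_iff.1 ha) (j.isEmbedding.isInducing.specializes_iff.1 hb)).imp
    (congrArg j) (congrArg j)

theorem ord_map_of_bijective {R S : Type u} [CommRing R] [CommRing S] (e : R →+* S) (he : Function.Bijective e)
    (a : R) : Ring.ord S (e a) = Ring.ord R a := by
  let e' := RingEquiv.ofBijective e he
  letI := e.toAlgebra
  unfold Ring.ord
  have h : Ideal.span {e a} = (Ideal.span {a}).map (e' : R →+* S) := by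
    rw [Ideal.map_span, Set.image_singleton]; rfl
  let q : R ⧸ Ideal.span {a} →+* S ⧸ Ideal.span {e a} :=
    (Ideal.quotientEquiv (Ideal.span {a}) (Ideal.span {e a}) e' h).toRingHom
  rw [← Module.length_eq_of_surjective (M := S ⧸ Ideal.span {e a}) (show Function.Surjective (algebraMap R S) from he.2)]
  refine (LinearEquiv.length_eq (LinearEquiv.ofBijective ({ q.toAddMonoidHom with
    map_smul' := fun r w => ?_ } : (R ⧸ Ideal.span {a}) →ₗ[R] S ⧸ Ideal.span {e a})
    (Ideal.quotientEquiv (Ideal.span {a}) (Ideal.span {e a}) e' h).bijective)).symm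
  obtain ⟨w, rfl⟩ := Ideal.Quotient.mk_surjective w
  rw [Algebra.smul_def, Algebra.smul_def]
  exact map_mul q _ _

theorem divFun_preimmersion [IsPreimmersion j] [IsLocallyNoetherian X] [IsLocallyNoetherian C] {δ : X → ℤ}
    (hδ : Cyc.IsDimFun X δ) (hC : Cyc.IsDimFun C (δ ∘ j)) (c z : C) {f : X.residueField (j c)} (hf : f ≠ 0) :
    Cyc.divFun (δ ∘ j) c (j.residueFieldMap c f) z = Cyc.divFun δ (j c) f (j z) := by
  by_cases h : j c ⤳ j z ∧ δ (j z) + 1 = δ (j c)
  swap
  · rw [Cyc.divFun, Cyc.divFun, dif_neg h, dif_neg]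
    exact fun h' => h ⟨h'.1.map j.continuous, h'.2⟩
  have hcz : c ⤳ z := j.isEmbedding.isInducing.specializes_iff.1 h.1
  rw [Cyc.divFun, Cyc.divFun, dif_pos h, dif_pos ⟨hcz, h.2⟩]
  obtain ⟨a, b, hb, hab⟩ := exists_frac h.1 f
  have ha : a ∉ primeOf h.1 := fun ha => by
    rw [show Cyc.specMap _ _ h.1 a = 0 from ha] at hab
    exact (mul_eq_zero.1 hab).elim hf hb
  have hcomap : (primeOf hcz).comap (j.stalkMap z).hom = primeOf h.1 := comap_primeOf j hcz
  have hne : ∀ {w}, w ∉ primeOf h.1 → (j.stalkMap z).hom w ∉ primeOf hcz := fun {w} hw hm =>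
    hw (hcomap ▸ Ideal.mem_comap.2 hm)
  rw [ordAt_eq_sub hC hcz h.2 (hne ha) (hne hb) (by
      rw [← residueFieldMap_specMap j hcz, ← residueFieldMap_specMap j hcz, ← map_mul]
      exact congrArg _ hab), ordAt_eq_sub hδ h.1 h.2 ha hb hab]
  let e : Cyc.LocQuot (j z) (j c) h.1 →+* Cyc.LocQuot z c hcz :=
    Ideal.quotientMap (primeOf hcz) (j.stalkMap z).hom hcomap.ge
  have he : Function.Bijective e :=
    ⟨Ideal.quotientMap_injective' hcomap.le, Ideal.quotientMap_surjective (j.stalkMap_surjective z)⟩
  rw [← ord_map_of_bijective e he (Ideal.Quotient.mk _ a), ← ord_map_of_bijective e he (Ideal.Quotient.mk _ b)]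
  rfl

end preimmersion

section place

variable (k : Type u) [Field k] {X : Scheme.{u}} [IsIntegral X] [X.Over (Spec (CommRingCat.of k))]
  [CurveRR.RegCurve X]

theorem toRes_over_eq (x : X) :
    GrothLib.AffDom.toRes (X ↘ Spec (CommRingCat.of k)) x =
      (residue (X.presheaf.stalk x)).comp (CurveRR.cst k x) := by
  have h : CommRingCat.ofHom (GrothLib.AffDom.toRes (X ↘ Spec (CommRingCat.of k)) x) =
      CommRingCat.ofHom ((residue (X.presheaf.stalk x)).comp (CurveRR.cst k x)) := by
    apply Spec.map_injective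
    rw [GrothLib.AffDom.SpecMap_toRes]
    refine (Category.assoc _ _ _).trans ?_
    rw [CurveRR.fromSpecStalk_over]
    exact (Spec.map_comp _ _).symm
  exact congrArg CommRingCat.Hom.hom h

/-- The degree of the place of a point is its residue degree. -/
theorem deg_place_eq (x : CurveRR.CP X) :
    (CurveRR.place k x).deg = EGA4loc.residueDegree (X ↘ Spec (CommRingCat.of k)) x.1 := by
  letI := (GrothLib.AffDom.toRes (X ↘ Spec (CommRingCat.of k)) x.1).toAlgebra
  rw [GrothLib.Zeta.residueDegree_eq_finrank]
  let P := CurveRR.place k x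
  let φ : X.presheaf.stalk x.1 →+* P.O :=
    (algebraMap (X.presheaf.stalk x.1) X.functionField).codRestrict P.O.toSubring
      fun r => (CurveRR.mem_place_O k).2 ⟨r, rfl⟩
  have hφ : Function.Surjective φ := fun z => by
    obtain ⟨r, hr⟩ := (CurveRR.mem_place_O k).1 z.2
    exact ⟨r, Subtype.ext hr⟩
  let ψ : X.presheaf.stalk x.1 →+* IsLocalRing.ResidueField P.O := (residue P.O).comp φ
  have hker : RingHom.ker ψ = maximalIdeal (X.presheaf.stalk x.1) :=
    Ideal.ext fun r => (GrothLib.FunFld.res_eq_zero_iff P (φ r)).trans (CurveRR.place_lt_one_iff k)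
  let e : X.residueField x.1 ≃+* IsLocalRing.ResidueField P.O :=
    (Ideal.quotEquivOfEq hker.symm).trans
      (RingHom.quotientKerEquivOfSurjective (IsLocalRing.residue_surjective.comp hφ))
  let e' : X.residueField x.1 ≃ₐ[k] IsLocalRing.ResidueField P.O := AlgEquiv.ofRingEquiv (f := e) fun c => by
    show e (GrothLib.AffDom.toRes (X ↘ Spec (CommRingCat.of k)) x.1 c) = _
    rw [toRes_over_eq]
    show residue P.O (φ (CurveRR.cst k x.1 c)) = residue P.O (algebraMap k P.O c)
    congr 1
    exact Subtype.ext ((CurveRR.algebraMap_cst k x.1 c).trans (GrothLib.FunFld.algebraMap_O_coe P c).symm)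
  exact e'.toLinearEquiv.finrank_eq.symm

end place

section curve

variable {C : Scheme.{u}} [IsIntegral C]

open Classical in
/-- The indicator of the generic point. -/
noncomputable def ind (C : Scheme.{u}) [IsIntegral C] : C → ℤ := fun x => if x = genericPoint C then 1 else 0

theorem isDimFun_ind (hcl : ∀ a b : C, a ⤳ b → a ≠ genericPoint C → a = b) : Cyc.IsDimFun C (ind C) := by
  intro a b hab hne
  have ha : a = genericPoint C := by_contra fun h => hne (hcl a b hab h)
  have hb : b ≠ genericPoint C := ha ▸ Ne.symm hne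
  simp [ind, ha, hb]

theorem coheight_of_ne (hcl : ∀ a b : C, a ⤳ b → a ≠ genericPoint C → a = b) {x : C}
    (hx : x ≠ genericPoint C) : Order.coheight x = 1 := by
  refine le_antisymm ?_ ?_
  · refine Order.coheight_le_iff'.mpr fun p hp => ?_
    by_contra hlen
    have h2 : 2 ≤ p.length := by
      by_contra h; exact hlen (by exact_mod_cast (by omega : p.length ≤ 1))
    have l1 : p ⟨0, by omega⟩ < p ⟨1, by omega⟩ := p.strictMono (by simp [Fin.lt_def])
    have l2 : p ⟨1, by omega⟩ < p ⟨2, by omega⟩ := p.strictMono (by simp [Fin.lt_def])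
    have h1 : p ⟨1, by omega⟩ = genericPoint C := by_contra fun h =>
      l1.ne (hcl _ _ (Scheme.le_iff_specializes.1 l1.le) h).symm
    exact l2.not_ge (h1 ▸ Scheme.le_iff_specializes.2 (genericPoint_specializes _))
  · rw [Order.one_le_iff_ne_zero, ne_eq, Order.coheight_eq_zero]
    exact fun hmax => (GrothLib.CurvePoints.lt_genericPoint hx).not_ge
      (hmax (GrothLib.CurvePoints.lt_genericPoint hx).le)

theorem topologicalKrullDim_eq_one (hcl : ∀ a b : C, a ⤳ b → a ≠ genericPoint C → a = b) {x : C}
    (hx : x ≠ genericPoint C) : topologicalKrullDim C = 1 := by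
  rw [show topologicalKrullDim C = Order.krullDim C from
    Order.krullDim_eq_of_orderIso (irreducibleSetEquivPoints (α := ↥C))]
  refine le_antisymm (Order.krullDim_le_one_iff.2 fun a => ?_)
    (Order.one_le_krullDim_iff.2 ⟨x, _, GrothLib.CurvePoints.lt_genericPoint hx⟩)
  by_cases ha : a = genericPoint C
  · exact Or.inr fun b _ => ha ▸ Scheme.le_iff_specializes.2 (genericPoint_specializes b)
  · exact Or.inl fun b hb => (hcl a b (Scheme.le_iff_specializes.1 hb) ha).le

theorem ordFrac_stalk [IsLocallyNoetherian C] {x : C} (hx : Order.coheight x = 1) {f : C.functionField}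
    (hf : f ≠ 0) : CycAlg.ordFrac (C.presheaf.stalk x) C.functionField f = Scheme.ord f x := by
  haveI : Ring.KrullDimLE 1 (C.presheaf.stalk x) := krullDimLE_of_coheight_le hx.le
  rw [CycAlg.ordFrac, dif_pos ⟨inferInstance, inferInstance, inferInstance, inferInstance⟩]
  have h : Ring.ordFrac (C.presheaf.stalk x) f = _ := (Scheme.ord_eq_iff hx hf).1 rfl
  rw [h]
  rfl

theorem divFun_ind_eq [IsLocallyNoetherian C] (hcl : ∀ a b : C, a ⤳ b → a ≠ genericPoint C → a = b) {x : C}
    (hx : x ≠ genericPoint C) {φ : C.functionField} (hφ : φ ≠ 0) :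
    Cyc.divFun (ind C) (genericPoint C) (C.residue (genericPoint C) φ) x = Scheme.ord φ x := by
  rw [Cyc.divFun, dif_pos ⟨genericPoint_specializes x, by simp [ind, hx]⟩]
  exact GrothLib.Ref1.ordAt_residue (coheight_of_ne hcl hx) _ hφ

theorem finsum_deg_divFun_regular (K : Type u) [Field K] (c : C ⟶ Spec (CommRingCat.of K)) [IsProper c]
    [CurveRR.RegCurve C] {φ : C.functionField} (hφ : φ ≠ 0) :
    ∑ᶠ x : C, (c.residueDegree x : ℤ) *
      Cyc.divFun (ind C) (genericPoint C) (C.residue (genericPoint C) φ) x = 0 := by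
  classical
  letI : C.Over (Spec (CommRingCat.of K)) := ⟨c⟩
  haveI : IsProper (C ↘ Spec (CommRingCat.of K)) := ‹IsProper c›
  haveI : IsLocallyNoetherian C := LocallyOfFiniteType.isLocallyNoetherian c
  have hcl : ∀ a b : C, a ⤳ b → a ≠ genericPoint C → a = b := fun a b hab ha =>
    ((CurvePoints.isClosed_singleton CurveRR.RegCurve.dim.le ha).closure_eq ▸
      specializes_iff_mem_closure.1 hab : b ∈ ({a} : Set C)).symm
  have hfg := CurveRR.isFG K (X := C)
  let e := CurveRR.placeEquiv K (X := C)
  have hpt : ∀ z : CurveRR.CP C, (c.residueDegree z.1 : ℤ) *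
      Cyc.divFun (ind C) (genericPoint C) (C.residue (genericPoint C) φ) z.1 =
      (FunFld.div K φ) (e z) * ((e z).deg : ℤ) := by
    intro z
    rw [divFun_ind_eq hcl z.2 hφ, GrothLib.FunFld.IsFG.div_apply hfg, mul_comm]
    have h1 : (e z).deg = c.residueDegree z.1 := deg_place_eq K z
    rw [h1]
    congr 1
    have hco := coheight_of_ne hcl z.2
    refine (Scheme.ord_eq_iff hco hφ).2 ?_
    show Ring.ordFrac (C.presheaf.stalk z.1) φ = _
    rw [Ring.ordFrac_eq_valuation_inv, show (IsDiscreteValuationRing.maximalIdeal (C.presheaf.stalk z.1)).valuation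
        C.functionField φ = WithZero.exp (-(e z).ord φ) from GrothLib.FunFld.val_eq (e z) hφ,
      ← WithZero.exp_neg, neg_neg]
    rfl
  have hsupp : (Function.support fun x : C => (c.residueDegree x : ℤ) *
      Cyc.divFun (ind C) (genericPoint C) (C.residue (genericPoint C) φ) x) ⊆ {x | x ≠ genericPoint C} := by
    intro x hx h
    subst h
    rw [Function.mem_support, Cyc.divFun, dif_neg (fun h => by omega), mul_zero] at hx
    exact hx rfl
  rw [← finsum_mem_univ, ← finsum_mem_inter_support, Set.univ_inter, ← Set.inter_eq_right.2 hsupp,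
    finsum_mem_inter_support, ← finsum_set_coe_eq_finsum_mem]
  refine ((finsum_congr hpt).trans ?_).trans (GrothLib.FunFld.IsFG.deg_div hfg φ)
  refine (finsum_comp_equiv e (f := fun P => FunFld.div K φ P * (P.deg : ℤ))).trans ?_
  rw [finsum_eq_sum_of_support_subset _ (s := (FunFld.div K φ).support)]
  · rfl
  · intro P hP
    rw [Function.mem_support] at hP
    exact Finsupp.mem_support_iff.2 fun h => hP (by rw [h, zero_mul])

/-- **A principal divisor on a proper curve has degree zero.** -/
theorem finsum_deg_divFun (K : Type u) [Field K] (c : C ⟶ Spec (CommRingCat.of K)) [IsProper c]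
    (hcl : ∀ a b : C, a ⤳ b → a ≠ genericPoint C → a = b) {ξ : C} (hξ : ξ = genericPoint C)
    {g : C.residueField ξ} (hg : g ≠ 0) :
    ∑ᶠ x : C, (c.residueDegree x : ℤ) * Cyc.divFun (ind C) ξ g x = 0 := by
  classical
  by_cases hex : ∃ x : C, x ≠ genericPoint C
  swap
  · push Not at hex
    refine finsum_eq_zero_of_forall_eq_zero fun x => ?_
    rw [Cyc.divFun, dif_neg, mul_zero]
    rintro ⟨-, h⟩
    rw [hex x, hξ] at h
    omega
  haveI : IsLocallyNoetherian C := LocallyOfFiniteType.isLocallyNoetherian c
  let φ : C.functionField →+* C.functionField := RingHom.id _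
  let j : Spec (CommRingCat.of C.functionField) ⟶ C := C.fromSpecStalk (genericPoint C)
  have hj : j = Spec.map (CommRingCat.ofHom φ) ≫ C.fromSpecStalk (genericPoint C) := by
    show C.fromSpecStalk _ = Spec.map (𝟙 _) ≫ _
    rw [Spec.map_id, Category.id_comp]
  haveI : QuasiSeparatedSpace C := quasiSeparatedSpace_of_quasiSeparated c
  haveI : QuasiCompact j := inferInstance
  haveI : QuasiSeparated j := inferInstance
  haveI := GrothLib.Japanese.isFinite_fromNormalization K c φ (RingHom.Finite.id _) j hj
  haveI : IsIntegral (Spec (CommRingCat.of C.functionField)) := inferInstance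
  let C' := j.normalization
  let ν := j.fromNormalization
  let pt : Spec (CommRingCat.of C.functionField) := closedPoint C.functionField
  have hjpt : j pt = genericPoint C := Scheme.fromSpecStalk_closedPoint
  have hgen : genericPoint C' = j.toNormalization pt := by
    refine IsGenericPoint.eq (genericPoint_spec C') ?_
    have hd := (inferInstance : IsDominant j.toNormalization).denseRange
    have hr : Set.range j.toNormalization = {j.toNormalization pt} := Set.range_eq_singleton_iff.2 fun a =>
      congrArg _ (@Subsingleton.elim _ (inferInstanceAs (Subsingleton (PrimeSpectrum C.functionField))) a pt)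
    rw [DenseRange, Dense, hr] at hd
    exact Set.eq_univ_of_forall hd
  have hνpt : ν (j.toNormalization pt) = genericPoint C := by
    rw [← Scheme.Hom.comp_apply, Scheme.Hom.toNormalization_fromNormalization]
    exact hjpt
  have hνη : ν (genericPoint C') = genericPoint C := by rw [hgen, hνpt]
  have hfib : ∀ a : C', ν a = genericPoint C → a = genericPoint C' := fun a ha =>
    (GrothLib.Japanese.Scheme.Hom.specializes_eq_of_locallyQuasiFinite ν (genericPoint_specializes a)
      (hνη.trans ha.symm)).symm
  have hbir : Function.Surjective (ν.residueFieldMap (genericPoint C')).hom := by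
    rw [hgen]
    intro z
    have hcomp : Function.Surjective
        ((j.toNormalization ≫ ν).residueFieldMap pt).hom := by
      haveI : SurjectiveOnStalks (j.toNormalization ≫ ν) := by
        rw [Scheme.Hom.toNormalization_fromNormalization]
        exact inferInstanceAs (SurjectiveOnStalks (C.fromSpecStalk (genericPoint C)))
      exact (residueFieldMap_bijective (j.toNormalization ≫ ν) pt).2
    rw [Scheme.residueFieldMap_comp] at hcomp
    change Function.Surjective fun w => j.toNormalization.residueFieldMap pt (ν.residueFieldMap (j.toNormalization pt) w) at hcomp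
    obtain ⟨w, hw⟩ := hcomp (j.toNormalization.residueFieldMap pt z)
    exact ⟨w, (j.toNormalization.residueFieldMap pt).hom.injective hw⟩
  have hcl' : ∀ a b : C', a ⤳ b → a ≠ genericPoint C' → a = b := fun a b hab ha =>
    GrothLib.Japanese.Scheme.Hom.specializes_eq_of_locallyQuasiFinite ν hab
      (hcl _ _ (hab.map ν.continuous) fun h => ha (hfib a h))
  obtain ⟨x₀, hx₀⟩ := hex
  have hsurj : Function.Surjective ν := fun z => by
    have h1 : IsClosed (Set.range ν) := ν.isClosedMap.isClosed_range
    exact (genericPoint_specializes z).mem_closed h1 ⟨_, hνη⟩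
  obtain ⟨x₁, hx₁⟩ := hsurj x₀
  have hx₁' : x₁ ≠ genericPoint C' := fun h => hx₀ (by rw [← hx₁, h, hνη])
  haveI : IsLocallyNoetherian C' := LocallyOfFiniteType.isLocallyNoetherian (ν ≫ c)
  haveI : CurveRR.RegCurve C' :=
    ⟨topologicalKrullDim_eq_one hcl' hx₁', fun x hx => GrothLib.CurvePoints.isDiscreteValuationRing_stalk
      (topologicalKrullDim_eq_one hcl' hx₁').le hx
      (GrothLib.Japanese.isIntegrallyClosed_stalk_normalization K c φ (RingHom.Finite.id _) j hj x).2⟩
  have hδC := isDimFun_ind hcl
  have hδC' := isDimFun_ind hcl'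
  have hind : ∀ a : C', ind C' a = ind C (ν a) := fun a => by
    by_cases ha : a = genericPoint C'
    · simp [ind, ha, hνη]
    · simp [ind, ha, show ν a ≠ genericPoint C from fun h => ha (hfib a h)]
  have hcompat : Cyc.DeltaCompat ν (ind C') (ind C) := fun a =>
    ⟨0, by rw [Nat.cast_zero]; exact resTrdeg_finite ν (GrothLib.Weight.finite_residueFieldMap ν a),
      by simp [hind a]⟩
  obtain rfl : ξ = ν (genericPoint C') := hξ.trans hνη.symm
  obtain ⟨φ', hφ'⟩ := C'.residue_surjective (genericPoint C') (ν.residueFieldMap _ g)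
  have hg' : ν.residueFieldMap (genericPoint C') g ≠ 0 :=
    (map_ne_zero (ν.residueFieldMap (genericPoint C')).hom).2 hg
  have hφ0 : φ' ≠ 0 := fun h => hg' (by rw [← hφ', h, map_zero])
  have hreg := finsum_deg_divFun_regular K (ν ≫ c) (C := C') hφ0
  rw [hφ'] at hreg
  haveI : CompactSpace C := QuasiCompact.compactSpace_of_compactSpace c
  haveI : CompactSpace C' := QuasiCompact.compactSpace_of_compactSpace (ν ≫ c)
  haveI : IsNoetherian C' := {}
  have hS := finite_support_divFun hδC' (genericPoint C') hg'
  set D := Cyc.divFun (ind C') (genericPoint C') (ν.residueFieldMap (genericPoint C') g) with hD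
  set F : C' → ℤ := fun x => ((ν ≫ c).residueDegree x : ℤ) * D x with hF
  have hFs : ∀ x, F x ≠ 0 → x ∈ hS.toFinset := fun x hx =>
    hS.mem_toFinset.2 fun h => hx (by simp only [hF, h, mul_zero])
  have key : ∀ x : C, (c.residueDegree x : ℤ) * Cyc.divFun (ind C) (ν (genericPoint C')) g x =
      ∑ x' ∈ hS.toFinset.filter (fun x' => ν x' = x), F x' := by
    intro x
    have h1 := map_divFun_finite ν hδC' hδC hcompat (genericPoint C') hg' x
    rw [normGen_residueFieldMap ν hbir] at h1
    rw [← h1, mul_finsum_mem]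
    rw [finsum_mem_congr rfl (g := F) fun x' hx' => ?_]
    · exact finsum_mem_eq_sum_of_inter_support_eq _ (by
        ext x'
        simp only [Set.mem_inter_iff, Set.mem_preimage, Set.mem_singleton_iff, Function.mem_support,
          Finset.coe_filter, Set.mem_setOf_eq]
        exact ⟨fun h => ⟨⟨hFs x' h.2, h.1⟩, h.2⟩, fun h => ⟨h.1.2, h.2⟩⟩)
    · have hx'' : ν x' = x := hx'
      subst hx''
      rw [show AlgebraicCycle.mapCoeff ν (ind C') (ind C) x' = ν.residueDegree x' from if_pos (hind x')]
      simp only [hF, GrothLib.CycBasic.residueDegree_comp, Nat.cast_mul, hD]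
      ring
  rw [finsum_congr key]
  rw [finsum_eq_sum_of_support_subset _ (s := hS.toFinset.image ν) fun x hx => ?_]
  · rw [Finset.sum_fiberwise_of_maps_to (fun x hx => Finset.mem_image_of_mem ν hx),
      ← finsum_eq_sum_of_support_subset F fun x hx => hFs x hx]
    exact hreg
  · obtain ⟨x', hx', -⟩ := Finset.exists_ne_zero_of_sum_ne_zero (show _ ≠ (0 : ℤ) from hx)
    rw [Finset.mem_filter] at hx'
    exact hx'.2 ▸ Finset.mem_image_of_mem ν hx'.1

end curve

end GrothLib.CycPush
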