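import Groth.Agent.Lib.CycPush.Semilocal
import Groth.Agent.Lib.CycBasic.SubLength

/-!
Pushforward of a principal divisor along a finite morphism.
-/

set_option autoImplicit false
universe u

open CategoryTheory AlgebraicGeometry IsLocalRing GrothLib.Altitude GrothLib.CycDiv

namespace GrothLib.CycPush

variable {X Y : Scheme.{u}} (p : X ⟶ Y)

theorem resTrdeg_finite {x : X} (hx : (p.residueFieldMap x).hom.Finite) :
    GrothLib.CycFlat.resTrdeg p x = 0 := by
  algebraize [(p.residueFieldMap x).hom]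
  exact trdeg_eq_zero

theorem delta_eq {δX : X → ℤ} {δY : Y → ℤ} (hδ : Cyc.DeltaCompat p δX δY) {x : X}
    (hx : (p.residueFieldMap x).hom.Finite) : δX x = δY (p x) := by
  obtain ⟨n, hn, hnx⟩ := hδ x
  have : (n : Cardinal.{u}) = ((0 : ℕ) : Cardinal.{u}) := by
    rw [Nat.cast_zero]; exact hn.symm.trans (resTrdeg_finite p hx)
  have : n = 0 := by exact_mod_cast this
  omega

section local_

variable {ξ : X} {y : Y} (h : p ξ ⤳ y) {V : Y.Opens} (hy : y ∈ V) (hF : FinOn p V)

theorem comap_semiAlgebraMap {x : X} (hx : p x = y) (hξ : ξ ⤳ x) :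
    (primeAt p h hy hx hξ hF.affine).asIdeal.comap (algebraMap (Cyc.LocQuot y (p ξ) h) (semi p h hy hF.affine)) =
      maximalIdeal _ := by
  refine ((maximalIdeal.isMaximal _).eq_of_le (Ideal.comap_ne_top _ (primeAt p h hy hx hξ hF.affine).isPrime.ne_top) ?_).symm
  subst hx
  intro a ha
  obtain ⟨c, rfl⟩ := Ideal.Quotient.mk_surjective a
  show ¬ IsUnit (phi p h hy rfl hξ hF.affine (algebraMap _ _ (Ideal.Quotient.mk _ c)))
  rw [show phi p h hy rfl hξ hF.affine (algebraMap _ _ (Ideal.Quotient.mk _ c)) =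
    Ideal.Quotient.mk _ ((p.stalkMap x).hom c) from injective_algebraMap_locQuot hξ (by
      rw [algebraMap_phi]
      exact residueFieldMap_specMap p hξ c), isUnit_mk_iff hξ]
  exact fun hu => ha ((isUnit_of_map_unit (p.stalkMap x).hom c hu).map _)

theorem isMaximal_primeAt {x : X} (hx : p x = y) (hξ : ξ ⤳ x) :
    (primeAt p h hy hx hξ hF.affine).asIdeal.IsMaximal := by
  haveI := finite_semi p h hy hF
  refine Ideal.isMaximal_of_isIntegral_of_isMaximal_comap (R := Cyc.LocQuot y (p ξ) h) _ ?_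
  rw [comap_semiAlgebraMap p h hy hF hx hξ]
  exact maximalIdeal.isMaximal _

theorem exists_point_of_isMaximal (q : PrimeSpectrum (semi p h hy hF.affine)) (hq : q.asIdeal.IsMaximal) :
    ∃ (x : X) (hx : p x = y) (hξ : ξ ⤳ x), primeAt p h hy hx hξ hF.affine = q := by
  haveI := finite_semi p h hy hF
  let hU := hF.affine'
  let P : PrimeSpectrum Γ(X, p ⁻¹ᵁ V) := ⟨q.asIdeal.comap (toSemi p h hy hF.affine), Ideal.comap_isPrime _ _⟩
  have hxU : hU.fromSpec P ∈ p ⁻¹ᵁ V := by
    have : hU.fromSpec P ∈ Set.range hU.fromSpec := ⟨P, rfl⟩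
    rwa [hU.range_fromSpec] at this
  have hP : hU.primeIdealOf ⟨hU.fromSpec P, hxU⟩ = P :=
    hU.fromSpec.isOpenEmbedding.injective (hU.fromSpec_primeIdealOf ⟨_, hxU⟩)
  have hξ : ξ ⤳ hU.fromSpec P := by
    have hle : hU.primeIdealOf ⟨ξ, memU p h hy⟩ ≤ P := by
      show (hU.primeIdealOf ⟨ξ, memU p h hy⟩).asIdeal ≤ _
      rw [← ker_evalAt hU ξ (memU p h hy)]
      intro r hr
      have : toSemi p h hy hF.affine r = 0 := Subtype.ext (RingHom.mem_ker.1 hr)
      show toSemi p h hy hF.affine r ∈ q.asIdeal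
      rw [this]
      exact zero_mem _
    have := ((PrimeSpectrum.le_iff_specializes _ _).1 hle).map hU.fromSpec.continuous
    rwa [hU.fromSpec_primeIdealOf] at this
  have hpx : p (hU.fromSpec P) = y := by
    have hmax : q.asIdeal.comap (algebraMap (Cyc.LocQuot y (p ξ) h) (semi p h hy hF.affine)) = maximalIdeal _ :=
      IsLocalRing.eq_maximalIdeal (Ideal.isMaximal_comap_of_isIntegral_of_isMaximal q.asIdeal)
    have e1 : hF.affine.primeIdealOf ⟨p (hU.fromSpec P), hxU⟩ = hF.affine.primeIdealOf ⟨y, hy⟩ := by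
      refine PrimeSpectrum.ext ?_
      rw [hF.affine.primeIdealOf_eq_map_closedPoint ⟨y, hy⟩, ← ker_evalAt hF.affine]
      ext r
      rw [RingHom.mem_ker, ← map_eq_zero_iff _ (p.residueFieldMap (hU.fromSpec P)).hom.injective]
      show p.residueFieldMap (hU.fromSpec P) (Y.evaluation V _ hxU r) = 0 ↔ _
      rw [Scheme.evaluation_naturality_apply p (hU.fromSpec P) hxU r]
      show p.app V r ∈ RingHom.ker (evalAt (p ⁻¹ᵁ V) (hU.fromSpec P) hxU) ↔ _
      rw [ker_evalAt hU, hP]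
      have e2 : toSemi p h hy hF.affine (p.app V r) = algebraMap _ (semi p h hy hF.affine) (evV p h hy r) :=
        Subtype.ext (baseMap_evV p h hy r).symm
      show toSemi p h hy hF.affine (p.app V r) ∈ q.asIdeal ↔ _
      rw [e2, ← Ideal.mem_comap, hmax, mem_maximalIdeal, mem_nonunits_iff]
      show ¬IsUnit (Ideal.Quotient.mk (primeOf h) ((Y.presheaf.germ V y hy).hom r)) ↔
        ¬IsUnit ((Y.presheaf.germ V y hy).hom r)
      haveI : IsLocalHom (Ideal.Quotient.mk (primeOf h)) := .of_surjective _ Ideal.Quotient.mk_surjective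
      exact not_congr ⟨fun hc => isUnit_of_map_unit _ _ hc, fun hc => hc.map _⟩
    have := congrArg (fun t => hF.affine.fromSpec t) e1
    simpa only [hF.affine.fromSpec_primeIdealOf] using this
  refine ⟨_, hpx, hξ, PrimeSpectrum.ext (ext_comap_toSemi p h hy hF.affine ?_)⟩
  rw [comap_toSemi_primeAt p h hy hpx hξ hF.affine hF.affine']
  exact congrArg PrimeSpectrum.asIdeal hP

theorem primeAt_inj {x x' : X} (hx : p x = y) (hx' : p x' = y) (hξ : ξ ⤳ x) (hξ' : ξ ⤳ x')
    (e : primeAt p h hy hx hξ hF.affine = primeAt p h hy hx' hξ' hF.affine) : x = x' := by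
  have h1 := comap_toSemi_primeAt p h hy hx hξ hF.affine hF.affine'
  rw [e, comap_toSemi_primeAt p h hy hx' hξ' hF.affine hF.affine'] at h1
  have h2 := congrArg (fun t => hF.affine'.fromSpec t) (PrimeSpectrum.ext h1)
  simp only [IsAffineOpen.fromSpec_primeIdealOf] at h2
  exact h2.symm

theorem length_primeAt_quot {x : X} (hx : p x = y) (hξ : ξ ⤳ x) :
    Module.length (Cyc.LocQuot y (p ξ) h) (semi p h hy hF.affine ⧸ (primeAt p h hy hx hξ hF.affine).asIdeal) =
      (p.residueDegree x : ℕ∞) := by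
  have hmax := isMaximal_primeAt p h hy hF hx hξ
  subst hx
  let res : Cyc.LocQuot x ξ hξ →+* X.residueField x :=
    Ideal.Quotient.lift _ (X.residue x).hom fun a ha => (residue_eq_zero_iff a).2
      (le_maximalIdeal (RingHom.ker_ne_top (Cyc.specMap x ξ hξ)) ha)
  have hres : ∀ c, res c = 0 ↔ c ∈ maximalIdeal _ := fun c => by
    obtain ⟨c, rfl⟩ := Ideal.Quotient.mk_surjective c
    rw [mem_maximalIdeal, mem_nonunits_iff, isUnit_mk_iff hξ]
    exact residue_eq_zero_iff c
  let ψ : semi p h hy hF.affine →+* X.residueField x := res.comp (phi p h hy rfl hξ hF.affine)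
  have hker : ∀ b, ψ b = 0 ↔ b ∈ (primeAt p h hy rfl hξ hF.affine).asIdeal := fun b => hres _
  have hψs : Function.Surjective ψ := by
    intro z
    obtain ⟨r, s, hs, hrs⟩ := evalAt_fractions hF.affine' x hy z
    have hval : ∀ b, ψ (toSemi p h hy hF.affine b) = evalAt (p ⁻¹ᵁ V) x hy b := fun b => by
      show res _ = _
      rw [phi_toSemi]
      rfl
    obtain ⟨t, i, hi, ht⟩ := hmax.exists_inv (fun hm => hs ((hval s).symm.trans ((hker _).2 hm)))
    refine ⟨toSemi p h hy hF.affine r * t, mul_right_cancel₀ hs ?_⟩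
    rw [hrs, map_mul, hval, mul_assoc, ← hval s, ← map_mul]
    have h1 : ψ (t * toSemi p h hy hF.affine s) = 1 := by
      rw [← ψ.map_one, ← ht, map_add, (hker i).2 hi, add_zero]
    rw [h1, mul_one]
  letI : Algebra (Cyc.LocQuot (p x) (p ξ) h) (X.residueField x) :=
    (ψ.comp (algebraMap _ (semi p h hy hF.affine))).toAlgebra
  let ψₐ : semi p h hy hF.affine →ₐ[Cyc.LocQuot (p x) (p ξ) h] X.residueField x := { ψ with commutes' := fun _ => rfl }
  have hk : RingHom.ker ψₐ = (primeAt p h hy rfl hξ hF.affine).asIdeal := Ideal.ext fun b => hker b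
  rw [((Ideal.quotientEquivAlgOfEq _ hk.symm).trans (Ideal.quotientKerAlgEquivOfSurjective (f := ψₐ) hψs)).toLinearEquiv.length_eq]
  let ρ : Cyc.LocQuot (p x) (p ξ) h →+* Y.residueField (p x) :=
    Ideal.Quotient.lift _ (Y.residue (p x)).hom fun a ha => (residue_eq_zero_iff a).2
      (le_maximalIdeal (RingHom.ker_ne_top (Cyc.specMap (p x) (p ξ) h)) ha)
  letI : Algebra (Y.residueField (p x)) (X.residueField x) := (p.residueFieldMap x).hom.toAlgebra
  haveI : Module.Finite (Y.residueField (p x)) (X.residueField x) := hF.res x hy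
  rw [GrothLib.CycBasic.length_eq_of_surjective ρ (fun z => by
      obtain ⟨c, rfl⟩ := Y.residue_surjective (p x) z
      exact ⟨Ideal.Quotient.mk _ c, rfl⟩) (X.residueField x) (fun a m => ?_), Module.length_eq_finrank]
  · rfl
  · obtain ⟨c, rfl⟩ := Ideal.Quotient.mk_surjective a
    show ψ (algebraMap _ _ (Ideal.Quotient.mk _ c)) * m = p.residueFieldMap x (Y.residue (p x) c) * m
    congr 1
    show res (phi p h hy rfl hξ hF.affine (algebraMap _ _ (Ideal.Quotient.mk _ c))) = _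
    rw [show phi p h hy rfl hξ hF.affine (algebraMap _ _ (Ideal.Quotient.mk _ c)) =
      Ideal.Quotient.mk _ ((p.stalkMap x).hom c) from injective_algebraMap_locQuot hξ (by
        rw [algebraMap_phi]
        exact residueFieldMap_specMap p hξ c)]
    exact (congr($(Scheme.residue_residueFieldMap p x).hom c)).symm

include h hy hF in
theorem finiteDimensional_residueField :
    letI := (p.residueFieldMap ξ).hom.toAlgebra
    FiniteDimensional (Y.residueField (p ξ)) (X.residueField ξ) :=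
  hF.res ξ (memU p h hy)

open Classical in
include hy hF in
theorem ordAt_norm_eq_sum [IsLocallyNoetherian X] [IsLocallyNoetherian Y] {δX : X → ℤ} {δY : Y → ℤ}
    (hδX : Cyc.IsDimFun X δX) (hδY : Cyc.IsDimFun Y δY) (hδ : Cyc.DeltaCompat p δX δY)
    (hd : δY y + 1 = δY (p ξ)) {g : X.residueField ξ} (hg : g ≠ 0)
    (S : Finset X) (hS : ∀ x, x ∈ S ↔ p x = y ∧ ξ ⤳ x) :
    Cyc.ordAt y (p ξ) h (Cyc.normGen p ξ g) =
      ∑ x ∈ S, Cyc.divFun δX ξ g x * (p.residueDegree x : ℤ) := by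
  letI algKL : Algebra (Y.residueField (p ξ)) (X.residueField ξ) := (p.residueFieldMap ξ).hom.toAlgebra
  haveI : FiniteDimensional (Y.residueField (p ξ)) (X.residueField ξ) := finiteDimensional_residueField p h hy hF
  letI : Algebra (Cyc.LocQuot y (p ξ) h) (X.residueField ξ) := (baseMap p h).toAlgebra
  haveI : IsScalarTower (Cyc.LocQuot y (p ξ) h) (Y.residueField (p ξ)) (X.residueField ξ) :=
    IsScalarTower.of_algebraMap_eq fun _ => rfl
  haveI : IsScalarTower (Cyc.LocQuot y (p ξ) h) (semi p h hy hF.affine) (X.residueField ξ) :=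
    IsScalarTower.of_algebraMap_eq fun _ => rfl
  haveI := finite_semi p h hy hF
  haveI := isFractionRing_locQuot h
  haveI := isFractionRing_semi p h hy hF.affine hF.affine'
  haveI : IsNoetherianRing (Cyc.LocQuot y (p ξ) h) :=
    isNoetherianRing_of_surjective _ _ (Ideal.Quotient.mk _) Ideal.Quotient.mk_surjective
  have hA : ringKrullDim (Cyc.LocQuot y (p ξ) h) = 1 := by
    rw [GrothLib.CycBasic.ringKrullDim_locQuot hδY y (p ξ) h, show (δY (p ξ) - δY y).toNat = 1 from by omega]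
    rfl
  haveI : Ring.KrullDimLE 1 (Cyc.LocQuot y (p ξ) h) := Ring.krullDimLE_iff.2 hA.le
  have hinj : Function.Injective (algebraMap (Cyc.LocQuot y (p ξ) h) (semi p h hy hF.affine)) :=
    fun a b e => injective_baseMap p h (congrArg Subtype.val e)
  obtain ⟨u, v, hv, huv⟩ := exists_semi_frac p h hy hF.affine hF.affine' g
  have hv0 : v ≠ 0 := fun e => hv (by rw [e]; rfl)
  have hu0 : u ≠ 0 := fun e => by
    rw [e] at huv
    exact (mul_ne_zero hg hv) huv
  let T : Finset (PrimeSpectrum (semi p h hy hF.affine)) := S.attach.image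
    fun x => primeAt p h hy ((hS x.1).1 x.2).1 ((hS x.1).1 x.2).2 hF.affine
  have hT : ∀ q, q ∈ T ↔ q.asIdeal.IsMaximal := fun q => by
    simp only [T, Finset.mem_image, Finset.mem_attach, true_and]
    refine ⟨fun ⟨x, e⟩ => e ▸ isMaximal_primeAt p h hy hF _ _, fun hq => ?_⟩
    obtain ⟨x, hx, hξ, e⟩ := exists_point_of_isMaximal p h hy hF q hq
    exact ⟨⟨x, (hS x).2 ⟨hx, hξ⟩⟩, e⟩
  have hN : ∀ w : semi p h hy hF.affine, w ≠ 0 →
      Algebra.norm (Y.residueField (p ξ)) (w : X.residueField ξ) ≠ 0 := fun w hw =>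
    Algebra.norm_ne_zero_iff.2 fun e => hw (Subtype.ext e)
  have hgdiv : Cyc.normGen p ξ g * Algebra.norm (Y.residueField (p ξ)) (v : X.residueField ξ) =
      Algebra.norm (Y.residueField (p ξ)) (u : X.residueField ξ) := by
    show Algebra.norm (Y.residueField (p ξ)) g * _ = _
    rw [← map_mul, huv]
  have hng : Cyc.normGen p ξ g ≠ 0 := fun e => hN u hu0 (by rw [← hgdiv, e, zero_mul])
  have h1 := ordFrac_mul (Y.residueField (p ξ)) (A := Cyc.LocQuot y (p ξ) h) hng (hN v hv0)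
  rw [hgdiv] at h1
  have hsum : ∀ w : semi p h hy hF.affine, w ≠ 0 →
      CycAlg.ordFrac (Cyc.LocQuot y (p ξ) h) (Y.residueField (p ξ))
        (Algebra.norm (Y.residueField (p ξ)) (w : X.residueField ξ)) =
      ∑ x ∈ S.attach, ((Ring.ord (Cyc.LocQuot x.1 ξ ((hS x.1).1 x.2).2)
        (phi p h hy ((hS x.1).1 x.2).1 ((hS x.1).1 x.2).2 hF.affine w)).toNat : ℤ) * (p.residueDegree x.1 : ℤ) := by
    intro w hw
    refine (ordFrac_norm_eq_sum hA hinj (Y.residueField (p ξ)) (X.residueField ξ) T hT hw).trans ?_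
    rw [Finset.sum_image fun a _ b _ e => Subtype.ext (primeAt_inj p h hy hF _ _ _ _ e)]
    refine Finset.sum_congr rfl fun x _ => ?_
    rw [length_primeAt_quot p h hy hF, ENat.toNat_coe]
    letI := (phi p h hy ((hS x.1).1 x.2).1 ((hS x.1).1 x.2).2 hF.affine).toAlgebra
    haveI := isLocalization_phi p h hy ((hS x.1).1 x.2).1 ((hS x.1).1 x.2).2 hF.affine hF.affine'
    rw [locLen_eq_ord _ (Cyc.LocQuot x.1 ξ ((hS x.1).1 x.2).2)]
    rfl
  show CycAlg.ordFrac (Cyc.LocQuot y (p ξ) h) (Y.residueField (p ξ)) (Cyc.normGen p ξ g) = _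
  rw [eq_sub_of_add_eq h1.symm, hsum u hu0, hsum v hv0, ← Finset.sum_sub_distrib, ← Finset.sum_attach S]
  refine Finset.sum_congr rfl fun x _ => ?_
  obtain ⟨hx, hξ⟩ := (hS x.1).1 x.2
  have hdx : δX x.1 + 1 = δX ξ := by
    rw [delta_eq p hδ (hF.res x.1 (show p x.1 ∈ V from hx ▸ hy)), delta_eq p hδ (hF.res ξ (memU p h hy)), hx]; exact hd
  obtain ⟨a, ha⟩ := Ideal.Quotient.mk_surjective (phi p h hy hx hξ hF.affine u)
  obtain ⟨b, hb⟩ := Ideal.Quotient.mk_surjective (phi p h hy hx hξ hF.affine v)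
  have hne : ∀ {w : semi p h hy hF.affine} {c}, w ≠ 0 → Ideal.Quotient.mk _ c = phi p h hy hx hξ hF.affine w →
      c ∉ primeOf hξ := fun {w c} hw e hc => hw (phi_injective p h hy hx hξ hF.affine
      (by rw [← e, Ideal.Quotient.eq_zero_iff_mem.2 hc, map_zero]))
  rw [Cyc.divFun, dif_pos ⟨hξ, hdx⟩, ordAt_eq_sub hδX hξ hdx (hne hu0 ha) (hne hv0 hb) (by
    rw [← algebraMap_mk, ← algebraMap_mk, ha, hb, algebraMap_phi, algebraMap_phi]
    exact huv), ha, hb]
  ring

end local_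

open Classical in
/-- **Pushforward of a principal divisor near points over which the map is finite.** -/
theorem sum_divFun_eq_of_finOn [IsLocallyNoetherian X] [IsLocallyNoetherian Y] {δX : X → ℤ} {δY : Y → ℤ}
    (hδX : Cyc.IsDimFun X δX) (hδY : Cyc.IsDimFun Y δY) (hδ : Cyc.DeltaCompat p δX δY) (ξ : X)
    {g : X.residueField ξ} (hg : g ≠ 0) (y : Y) {V : Y.Opens} (hy : y ∈ V) (hF : FinOn p V) :
    ∑ᶠ x ∈ p ⁻¹' {y}, Cyc.divFun δX ξ g x * (AlgebraicCycle.mapCoeff p δX δY x : ℤ) =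
      Cyc.divFun δY (p ξ) (Cyc.normGen p ξ g) y := by
  have hmem : ∀ x ∈ p ⁻¹' {y}, x ∈ p ⁻¹ᵁ V := fun x hx =>
    show p x ∈ V from (show p x = y from hx) ▸ hy
  have hfin : (p ⁻¹' {y}).Finite := hF.fib y hy
  by_cases hh : p ξ ⤳ y ∧ δY y + 1 = δY (p ξ)
  swap
  · rw [Cyc.divFun, dif_neg hh]
    refine finsum_mem_eq_zero_of_forall_eq_zero fun x hx => ?_
    rw [Cyc.divFun, dif_neg, zero_mul]
    rintro ⟨h1, h2⟩
    have hx' : p x = y := hx
    have hξU : ξ ∈ p ⁻¹ᵁ V := h1.mem_open (p ⁻¹ᵁ V).2 (hmem x hx)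
    rw [delta_eq p hδ (hF.res x (hmem x hx)), delta_eq p hδ (hF.res ξ hξU), hx'] at h2
    exact hh ⟨hx' ▸ h1.map p.continuous, h2⟩
  rw [Cyc.divFun, dif_pos hh, ordAt_norm_eq_sum p hh.1 hy hF hδX hδY hδ hh.2 hg
    (hfin.toFinset.filter fun x => ξ ⤳ x) (fun x => by simp), finsum_mem_eq_finite_toFinset_sum _ hfin,
    Finset.sum_filter]
  refine Finset.sum_congr rfl fun x hx => ?_
  rw [show AlgebraicCycle.mapCoeff p δX δY x = p.residueDegree x from
    if_pos (delta_eq p hδ (hF.res x (hmem x (hfin.mem_toFinset.1 hx))))]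
  split_ifs with hs
  · rfl
  · rw [Cyc.divFun, dif_neg fun h => hs h.1, zero_mul]

/-- **Finite pushforward of a principal divisor is the divisor of the norm.** -/
theorem map_divFun_finite [IsFinite p] [IsLocallyNoetherian X] [IsLocallyNoetherian Y] {δX : X → ℤ}
    {δY : Y → ℤ} (hδX : Cyc.IsDimFun X δX) (hδY : Cyc.IsDimFun Y δY) (hδ : Cyc.DeltaCompat p δX δY) (ξ : X)
    {g : X.residueField ξ} (hg : g ≠ 0) (y : Y) :
    ∑ᶠ x ∈ p ⁻¹' {y}, Cyc.divFun δX ξ g x * (AlgebraicCycle.mapCoeff p δX δY x : ℤ) =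
      Cyc.divFun δY (p ξ) (Cyc.normGen p ξ g) y := by
  obtain ⟨V, hV, hy, -⟩ := exists_isAffineOpen_mem_and_subset (x := y) (U := ⊤) trivial
  exact sum_divFun_eq_of_finOn p hδX hδY hδ ξ hg y hy (finOn_of_isFinite p hV)

theorem normGen_ne_zero (ξ : X) (hξ : (p.residueFieldMap ξ).hom.Finite) {g : X.residueField ξ} (hg : g ≠ 0) :
    Cyc.normGen p ξ g ≠ 0 := by
  letI := (p.residueFieldMap ξ).hom.toAlgebra
  haveI : Module.Finite (Y.residueField (p ξ)) (X.residueField ξ) := hξ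
  exact Algebra.norm_ne_zero_iff.2 hg

end GrothLib.CycPush
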