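import Groth.Agent.Lib.CycPush.Proper

/-!
Locally finite families of principal divisors.
-/

set_option autoImplicit false
universe u

open CategoryTheory AlgebraicGeometry GrothLib.CycDiv

namespace GrothLib.CycPush

variable {X : Scheme.{u}}

theorem divFun_inv [IsLocallyNoetherian X] {δ : X → ℤ} (hδ : Cyc.IsDimFun X δ) (ξ : X) {f : X.residueField ξ}
    (hf : f ≠ 0) (x : X) : Cyc.divFun δ ξ f⁻¹ x = -Cyc.divFun δ ξ f x := by
  by_cases h : ξ ⤳ x ∧ δ x + 1 = δ ξ
  swap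
  · rw [Cyc.divFun, Cyc.divFun, dif_neg h, dif_neg h, neg_zero]
  rw [Cyc.divFun, Cyc.divFun, dif_pos h, dif_pos h]
  obtain ⟨a, b, hb, hab⟩ := exists_frac h.1 f
  have ha : a ∉ primeOf h.1 := fun ha => by
    rw [show Cyc.specMap _ _ h.1 a = 0 from ha] at hab
    exact (mul_eq_zero.1 hab).elim hf hb
  rw [ordAt_eq_sub hδ h.1 h.2 ha hb hab, ordAt_eq_sub hδ h.1 h.2 hb ha (g := f⁻¹) (by
    rw [← hab, ← mul_assoc, inv_mul_cancel₀ hf, one_mul]), neg_sub]

/-- The inverse of the residue field map of a preimmersion. -/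
noncomputable def resInv {C : Scheme.{u}} (j : C ⟶ X) [SurjectiveOnStalks j] (c : C) (g : C.residueField c) :
    X.residueField (j c) :=
  (RingEquiv.ofBijective (j.residueFieldMap c).hom (residueFieldMap_bijective j c)).symm g

theorem residueFieldMap_resInv {C : Scheme.{u}} (j : C ⟶ X) [SurjectiveOnStalks j] (c : C) (g : C.residueField c) :
    j.residueFieldMap c (resInv j c g) = g :=
  RingEquiv.apply_symm_apply (RingEquiv.ofBijective (j.residueFieldMap c).hom (residueFieldMap_bijective j c)) g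

theorem resInv_ne_zero {C : Scheme.{u}} (j : C ⟶ X) [SurjectiveOnStalks j] {c : C} {g : C.residueField c}
    (hg : g ≠ 0) : resInv j c g ≠ 0 := fun h => hg (by rw [← residueFieldMap_resInv j c g, h, map_zero])

theorem divFun_push {C : Scheme.{u}} (j : C ⟶ X) [IsPreimmersion j] [IsLocallyNoetherian X]
    [IsLocallyNoetherian C] {δ : X → ℤ} (hδ : Cyc.IsDimFun X δ) (hC : Cyc.IsDimFun C (δ ∘ j)) (c z : C)
    {g : C.residueField c} (hg : g ≠ 0) :
    Cyc.divFun δ (j c) (resInv j c g) (j z) = Cyc.divFun (δ ∘ j) c g z := by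
  rw [← divFun_preimmersion j hδ hC c z (resInv_ne_zero j hg), residueFieldMap_resInv]

theorem isDimFun_openι {δ : X → ℤ} (hδ : Cyc.IsDimFun X δ) (U : X.Opens) :
    Cyc.IsDimFun (U : Scheme.{u}) (δ ∘ U.ι) :=
  isDimFun_comp U.ι hδ fun a b z _ hz => by
    rw [Scheme.Opens.range_ι]
    exact hz.mem_open U.2 (show U.ι b ∈ U from b.2)

theorem isDimFun_closedImmersion {C : Scheme.{u}} (i : C ⟶ X) [IsClosedImmersion i] {δ : X → ℤ}
    (hδ : Cyc.IsDimFun X δ) : Cyc.IsDimFun C (δ ∘ i) :=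
  isDimFun_comp i hδ fun a _ _ ha _ => ha.mem_closed i.isClosedEmbedding.isClosed_range ⟨a, rfl⟩

theorem finite_mem_support [IsLocallyNoetherian X] {δ : X → ℤ} (hδ : Cyc.IsDimFun X δ)
    (U : X.Opens) (hU : IsCompact (U : Set X)) (ξ : X) {f : X.residueField ξ} (hf : f ≠ 0) :
    {x : X | x ∈ U ∧ Cyc.divFun δ ξ f x ≠ 0}.Finite := by
  by_cases hξ : ξ ∈ U
  swap
  · refine Set.finite_empty.subset fun x hx => hx.2 ?_
    show Cyc.divFun δ ξ f x = 0
    rw [Cyc.divFun, dif_neg]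
    exact fun h => hξ (h.1.mem_open U.2 hx.1)
  haveI : CompactSpace ↥(U : Scheme.{u}) := isCompact_iff_compactSpace.mp hU
  haveI : IsNoetherian (U : Scheme.{u}) := {}
  obtain ⟨c, rfl⟩ : ξ ∈ Set.range U.ι := by rw [Scheme.Opens.range_ι]; exact hξ
  have hC := isDimFun_openι hδ U
  have hfin := GrothLib.CycDiv.finite_support_divFun hC c ((map_ne_zero (U.ι.residueFieldMap c).hom).2 hf)
  refine (hfin.image U.ι).subset fun x hx => ?_
  obtain ⟨z, rfl⟩ : x ∈ Set.range U.ι := by rw [Scheme.Opens.range_ι]; exact hx.1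
  refine ⟨z, ?_, rfl⟩
  show _ ≠ (0 : ℤ)
  rw [divFun_preimmersion U.ι hδ hC c z hf]
  exact hx.2

theorem finite_of_locFin {T ι : Type*} [TopologicalSpace T] {ξ : ι → T}
    (hloc : ∀ x : T, ∃ U : Set T, IsOpen U ∧ x ∈ U ∧ {i | (closure {ξ i} ∩ U).Nonempty}.Finite)
    {K : Set T} (hK : IsCompact K) : {i | (closure {ξ i} ∩ K).Nonempty}.Finite := by
  choose U hU hxU hfin using hloc
  obtain ⟨t, ht⟩ := hK.elim_finite_subcover U hU fun x _ => Set.mem_iUnion.2 ⟨x, hxU x⟩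
  refine (t.finite_toSet.biUnion fun x _ => hfin x).subset fun i hi => ?_
  obtain ⟨a, ha, haK⟩ := hi
  obtain ⟨x, hx, hax⟩ := Set.mem_iUnion₂.1 (ht haK)
  exact Set.mem_biUnion hx ⟨a, ha, hax⟩

variable {ι : Type*}

theorem finite_support_at [IsLocallyNoetherian X] {δ : X → ℤ} {ξ : ι → X}
    (f : (i : ι) → X.residueField (ξ i))
    (hloc : ∀ x : X, ∃ U : Set X, IsOpen U ∧ x ∈ U ∧ {i | (closure {ξ i} ∩ U).Nonempty}.Finite) (x : X) :
    (Function.support fun i => Cyc.divFun δ (ξ i) (f i) x).Finite := by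
  obtain ⟨U, -, hx, hfin⟩ := hloc x
  refine hfin.subset fun i hi => ?_
  by_contra hc
  refine hi ?_
  show Cyc.divFun δ (ξ i) (f i) x = 0
  rw [Cyc.divFun, dif_neg]
  exact fun h => hc ⟨x, specializes_iff_mem_closure.1 h.1, hx⟩

/-- The cycle of a locally finite family of principal divisors. -/
noncomputable def famCycle [IsLocallyNoetherian X] {δ : X → ℤ} (hδ : Cyc.IsDimFun X δ) {ξ : ι → X}
    (f : (i : ι) → X.residueField (ξ i)) (hf : ∀ i, f i ≠ 0)
    (hloc : ∀ x : X, ∃ U : Set X, IsOpen U ∧ x ∈ U ∧ {i | (closure {ξ i} ∩ U).Nonempty}.Finite) :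
    AlgebraicCycle X ℤ where
  toFun x := ∑ᶠ i, Cyc.divFun δ (ξ i) (f i) x
  supportWithinDomain' := Set.subset_univ _
  supportLocallyFiniteWithinDomain' := fun x _ => by
    obtain ⟨V, hV, hx, -⟩ := exists_isAffineOpen_mem_and_subset (x := x) (U := ⊤) trivial
    refine ⟨V, V.2.mem_nhds hx, ?_⟩
    refine ((finite_of_locFin hloc hV.isCompact).biUnion
      fun i _ => finite_mem_support hδ V hV.isCompact (ξ i) (hf i)).subset fun z hz => ?_
    obtain ⟨i, hi⟩ : ∃ i, Cyc.divFun δ (ξ i) (f i) z ≠ 0 := by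
      by_contra hc
      push Not at hc
      exact hz.2 (finsum_eq_zero_of_forall_eq_zero hc)
    refine Set.mem_biUnion (⟨z, ?_, hz.1⟩ : (closure {ξ i} ∩ (V : Set X)).Nonempty) ⟨hz.1, hi⟩
    by_contra hc
    refine hi ?_
    rw [Cyc.divFun, dif_neg]
    exact fun h => hc (specializes_iff_mem_closure.1 h.1)

@[simp]
theorem famCycle_apply [IsLocallyNoetherian X] {δ : X → ℤ} (hδ : Cyc.IsDimFun X δ) {ξ : ι → X}
    (f : (i : ι) → X.residueField (ξ i)) (hf : ∀ i, f i ≠ 0)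
    (hloc : ∀ x : X, ∃ U : Set X, IsOpen U ∧ x ∈ U ∧ {i | (closure {ξ i} ∩ U).Nonempty}.Finite) (x : X) :
    famCycle hδ f hf hloc x = ∑ᶠ i, Cyc.divFun δ (ξ i) (f i) x := rfl

theorem famCycle_mem_Zk [IsLocallyNoetherian X] {δ : X → ℤ} (hδ : Cyc.IsDimFun X δ) {ξ : ι → X}
    (f : (i : ι) → X.residueField (ξ i)) (hf : ∀ i, f i ≠ 0)
    (hloc : ∀ x : X, ∃ U : Set X, IsOpen U ∧ x ∈ U ∧ {i | (closure {ξ i} ∩ U).Nonempty}.Finite)
    {k : ℤ} (hdim : ∀ i, δ (ξ i) = k + 1) : famCycle hδ f hf hloc ∈ Cyc.Zk X δ k := fun x hx => by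
  refine finsum_eq_zero_of_forall_eq_zero fun i => ?_
  rw [Cyc.divFun, dif_neg]
  exact fun h => hx (by have := hdim i; omega)

/-- Pushforward along a closed immersion (or any embedding that is an isomorphism on residue fields). -/
theorem map_apply_of_preimmersion {C : Scheme.{u}} (i : C ⟶ X) [IsPreimmersion i] [QuasiCompact i]
    (δ : X → ℤ) {δC : C → ℤ} (hδC : ∀ z, δC z = δ (i z)) (α : AlgebraicCycle C ℤ) (z : C) :
    AlgebraicCycle.map i δC δ α (i z) = α z := by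
  rw [AlgebraicCycle.map, Function.locallyFinsupp.map_apply,
    show i ⁻¹' {i z} = {z} from Set.ext fun w => ⟨fun h => i.isEmbedding.injective h, fun h => by
      rw [Set.mem_singleton_iff.1 h]; rfl⟩, finsum_mem_singleton]
  rw [show AlgebraicCycle.mapCoeff i δC δ z = 1 from (if_pos (hδC z)).trans
    (residueDegree_eq_one i (residueFieldMap_bijective i z).2), Nat.cast_one, mul_one]

theorem map_apply_of_notMem_range {C : Scheme.{u}} (i : C ⟶ X) [QuasiCompact i]
    (δ : X → ℤ) (δC : C → ℤ) (α : AlgebraicCycle C ℤ) {x : X} (hx : x ∉ Set.range i) :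
    AlgebraicCycle.map i δC δ α x = 0 := by
  rw [AlgebraicCycle.map, Function.locallyFinsupp.map_apply]
  exact finsum_mem_eq_zero_of_forall_eq_zero fun w hw => absurd ⟨w, hw⟩ hx

end GrothLib.CycPush
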