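import Groth.Prelude.Def_ChowOps
import Groth.Agent.Lib.CycBasic.Push
import Groth.Agent.Lib.CycPush.Family

/-!
Linearity of the pushforward of cycles.
-/

set_option autoImplicit false
universe u

open CategoryTheory AlgebraicGeometry

namespace GrothLib.CycPush

variable {X Y : Scheme.{u}} (f : X ⟶ Y) [QuasiCompact f] (δX : X → ℤ) (δY : Y → ℤ)

theorem map_apply (α : AlgebraicCycle X ℤ) (y : Y) :
    AlgebraicCycle.map f δX δY α y = ∑ᶠ x ∈ f ⁻¹' {y}, α x * (AlgebraicCycle.mapCoeff f δX δY x : ℤ) := by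
  rw [AlgebraicCycle.map, Function.locallyFinsupp.map_apply]

theorem finite_map_support (α : AlgebraicCycle X ℤ) (y : Y) : (f ⁻¹' {y} ∩ Function.support fun x =>
    α x * (AlgebraicCycle.mapCoeff f δX δY x : ℤ)).Finite :=
  (GrothLib.CycBasic.finite_support_inter_fibre f α y).subset fun x hx =>
    ⟨fun h0 => hx.2 (by simp only [h0, zero_mul]), hx.1⟩

theorem map_add (α β : AlgebraicCycle X ℤ) :
    AlgebraicCycle.map f δX δY (α + β) = AlgebraicCycle.map f δX δY α + AlgebraicCycle.map f δX δY β := by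
  ext y
  rw [Function.locallyFinsuppWithin.coe_add, Pi.add_apply, map_apply, map_apply, map_apply,
    ← finsum_mem_add_distrib' (finite_map_support f δX δY α y) (finite_map_support f δX δY β y)]
  exact finsum_mem_congr rfl fun x _ => by
    rw [Function.locallyFinsuppWithin.coe_add, Pi.add_apply, add_mul]

/-- The pushforward of cycles as a homomorphism. -/
noncomputable def mapHom : AlgebraicCycle X ℤ →+ AlgebraicCycle Y ℤ :=
  AddMonoidHom.mk' (AlgebraicCycle.map f δX δY) (map_add f δX δY)

theorem map_zero' : AlgebraicCycle.map f δX δY (0 : AlgebraicCycle X ℤ) = 0 := (mapHom f δX δY).map_zero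

theorem map_sub (α β : AlgebraicCycle X ℤ) :
    AlgebraicCycle.map f δX δY (α - β) = AlgebraicCycle.map f δX δY α - AlgebraicCycle.map f δX δY β :=
  (mapHom f δX δY).map_sub α β

theorem map_nsmul (n : ℕ) (α : AlgebraicCycle X ℤ) :
    AlgebraicCycle.map f δX δY (n • α) = n • AlgebraicCycle.map f δX δY α :=
  _root_.map_nsmul (mapHom f δX δY) n α

theorem map_mem_Zk (α : AlgebraicCycle X ℤ) {k : ℤ} (hα : α ∈ Cyc.Zk X δX k) :
    AlgebraicCycle.map f δX δY α ∈ Cyc.Zk Y δY k := fun y hy => by
  rw [map_apply]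
  refine finsum_mem_eq_zero_of_forall_eq_zero fun x hx => ?_
  have hx' : f x = y := hx
  unfold AlgebraicCycle.mapCoeff
  split_ifs with he
  · rw [hα x (fun h => hy (by rw [← hx', ← h]; exact he.symm)), zero_mul]
  · rw [Nat.cast_zero, mul_zero]

theorem map_apply_of_injective (hf : Function.Injective f) (α : AlgebraicCycle X ℤ) (x : X) :
    AlgebraicCycle.map f δX δY α (f x) = α x * (AlgebraicCycle.mapCoeff f δX δY x : ℤ) := by
  rw [map_apply, show f ⁻¹' {f x} = {x} from Set.ext fun w => ⟨fun h => hf h, fun h => by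
    rw [Set.mem_singleton_iff.1 h]; rfl⟩, finsum_mem_singleton]

/-- The pushforward on groups of cycles of a given dimension. -/
noncomputable def mapZk (k : ℤ) : ↥(ChowOps.zk X δX k) →+ ↥(ChowOps.zk Y δY k) :=
  AddMonoidHom.codRestrict ((mapHom f δX δY).comp (ChowOps.zk X δX k).subtype) _
    fun a => map_mem_Zk f δX δY a.1 a.2

theorem coe_mapZk (k : ℤ) (a : ↥(ChowOps.zk X δX k)) :
    (mapZk f δX δY k a : AlgebraicCycle Y ℤ) = AlgebraicCycle.map f δX δY a.1 := rfl

end GrothLib.CycPush
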