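import Groth.Agent.Lib.CycPush.Finite

/-!
Finiteness over an open of the base.
-/

set_option autoImplicit false
universe u

open CategoryTheory AlgebraicGeometry

namespace GrothLib.CycPush

variable {X Y : Scheme.{u}} (p : X ⟶ Y)

theorem finite_of_comp_iso {A B C : CommRingCat.{u}} (f : A ⟶ B) (g : B ⟶ C) [IsIso g]
    (h : (f ≫ g).hom.Finite) : f.hom.Finite := by
  have h3 := RingHom.Finite.comp (RingHom.Finite.of_surjective (inv g).hom
    (ConcreteCategory.bijective_of_isIso (inv g)).2) h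
  rwa [← CommRingCat.hom_comp, Category.assoc, IsIso.hom_inv_id, Category.comp_id] at h3

theorem finOn_of_restrict {W : Y.Opens} (hW : IsFinite (p ∣_ W)) {V : Y.Opens} (hV : IsAffineOpen V)
    (hVW : V ≤ W) : FinOn p V := by
  haveI := hW
  haveI hfin : IsFinite (p ∣_ V) := by
    have h := IsZariskiLocalAtTarget.restrict (P := @IsFinite) hW (W.ι ⁻¹ᵁ V)
    have e := morphismRestrictRestrict p W (W.ι ⁻¹ᵁ V)
    rw [(MorphismProperty.arrow_mk_iso_iff (P := @IsFinite) e)] at h
    rwa [W.ι.image_preimage_eq_opensRange_inf, Scheme.Opens.opensRange_ι, inf_eq_right.2 hVW] at h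
  haveI : IsAffine (V : Scheme.{u}) := hV
  have hU : IsAffineOpen (p ⁻¹ᵁ V) := isAffine_of_isAffineHom (p ∣_ V)
  refine ⟨hV, hU, ?_, ?_, ?_⟩
  · have h1 := IsFinite.finite_app (f := p ∣_ V) ⊤ (isAffineOpen_top _)
    rw [morphismRestrict_app] at h1
    have h2 : ∀ (W' : Y.Opens), W' = V → (p.app W').hom.Finite → (p.app V).hom.Finite := by
      rintro W' rfl h; exact h
    refine h2 _ (Scheme.Opens.ι_image_top V) ?_
    haveI := Functor.map_isIso X.presheaf (eqToHom (image_morphismRestrict_preimage p V ⊤)).op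
    exact finite_of_comp_iso (p.app (V.ι ''ᵁ ⊤)) (X.presheaf.map (eqToHom (image_morphismRestrict_preimage p V ⊤)).op) h1
  · intro x hx
    obtain ⟨w, rfl⟩ : x ∈ Set.range (p ⁻¹ᵁ V).ι := by rw [Scheme.Opens.range_ι]; exact hx
    haveI : LocallyQuasiFinite ((p ⁻¹ᵁ V).ι ≫ p) := by rw [← morphismRestrict_ι]; infer_instance
    haveI : LocallyOfFiniteType ((p ⁻¹ᵁ V).ι ≫ p) := by rw [← morphismRestrict_ι]; infer_instance
    have h := GrothLib.Weight.finite_residueFieldMap ((p ⁻¹ᵁ V).ι ≫ p) w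
    rw [Scheme.residueFieldMap_comp] at h
    exact finite_of_comp_iso _ ((p ⁻¹ᵁ V).ι.residueFieldMap w) h
  · intro y hy
    refine (((p ∣_ V).finite_preimage_singleton ⟨y, hy⟩).image (p ⁻¹ᵁ V).ι).subset fun x hx => ?_
    have hx' : p x = y := hx
    refine ⟨⟨x, show p x ∈ V from hx' ▸ hy⟩, ?_, rfl⟩
    exact Subtype.ext ((morphismRestrict_base_coe p V _).trans hx')

end GrothLib.CycPush
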