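import Groth.Agent.Lib.CycPush.Curve
import Groth.Agent.Lib.CycPush.Restrict
import Groth.Agent.Lib.RedSub.Basic
import Mathlib.AlgebraicGeometry.ZariskisMainTheorem

/-!
Proper pushforward of a principal divisor.
-/

set_option autoImplicit false
universe u

open CategoryTheory CategoryTheory.Limits AlgebraicGeometry IsLocalRing GrothLib.CycDiv

namespace GrothLib.CycPush

variable {X Y : Scheme.{u}}

section closureSub

variable (ξ : X)

/-- The closure of a point with its reduced structure. -/
noncomputable def clSub : Scheme.{u} :=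
  (Scheme.IdealSheafData.vanishingIdeal ⟨closure {ξ}, isClosed_closure⟩).subscheme

/-- Inclusion of the closure of a point. -/
noncomputable def clι : clSub ξ ⟶ X :=
  (Scheme.IdealSheafData.vanishingIdeal ⟨closure {ξ}, isClosed_closure⟩).subschemeι

theorem range_clι : Set.range (clι ξ) = closure {ξ} := GrothLib.RedSub.range_subschemeι_vanishingIdeal _

theorem mem_range_clι {x : X} : x ∈ Set.range (clι ξ) ↔ ξ ⤳ x := by
  rw [range_clι, specializes_iff_mem_closure]

instance : IsPreimmersion (clι ξ) :=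
  inferInstanceAs (IsPreimmersion (Scheme.IdealSheafData.vanishingIdeal ⟨closure {ξ}, isClosed_closure⟩).subschemeι)

instance : IsClosedImmersion (clι ξ) :=
  .of_isPreimmersion _ (by rw [range_clι]; exact isClosed_closure)

instance : IsIntegral (clSub ξ) := by
  haveI : IsReduced (clSub ξ) := GrothLib.RedSub.isReduced_subscheme_vanishingIdeal _
  haveI : IrreducibleSpace (clSub ξ) := by
    have he := (clι ξ).isEmbedding
    have hξ : ξ ∈ Set.range (clι ξ) := (mem_range_clι ξ).2 specializes_rfl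
    haveI : Nonempty (clSub ξ) := ⟨hξ.choose⟩
    refine { isPreirreducible_univ := ?_, toNonempty := inferInstance }
    intro U V hU hV ⟨u, _, hu⟩ ⟨v, _, hv⟩
    obtain ⟨U', hU', rfl⟩ := he.isOpen_iff.1 hU
    obtain ⟨V', hV', rfl⟩ := he.isOpen_iff.1 hV
    obtain ⟨w, hw⟩ := hξ
    have h1 := ((mem_range_clι ξ).1 ⟨u, rfl⟩).mem_open hU' hu
    have h2 := ((mem_range_clι ξ).1 ⟨v, rfl⟩).mem_open hV' hv
    refine ⟨w, trivial, ?_, ?_⟩
    · show clι ξ w ∈ U'
      rw [hw]; exact h1
    · show clι ξ w ∈ V'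
      rw [hw]; exact h2
  exact isIntegral_of_irreducibleSpace_of_isReduced _

theorem clι_genericPoint : clι ξ (genericPoint (clSub ξ)) = ξ := by
  obtain ⟨w, hw⟩ := (mem_range_clι ξ).2 (specializes_rfl (x := ξ))
  refine (Specializes.antisymm ?_ ((mem_range_clι ξ).1 ⟨_, rfl⟩)).eq
  have := (genericPoint_specializes w).map (clι ξ).continuous
  rwa [hw] at this

end closureSub

theorem normGen_comp {C : Scheme.{u}} (j : C ⟶ X) [SurjectiveOnStalks j] (p : X ⟶ Y) (c : C)
    (f : X.residueField (j c)) :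
    Cyc.normGen (j ≫ p) c (j.residueFieldMap c f) = Cyc.normGen p (j c) f := by
  unfold Cyc.normGen
  letI i1 : Algebra (Y.residueField (p (j c))) (X.residueField (j c)) := (p.residueFieldMap (j c)).hom.toAlgebra
  letI i2 : Algebra (Y.residueField (p (j c))) (C.residueField c) := ((j ≫ p).residueFieldMap c).hom.toAlgebra
  let e := AlgEquiv.ofRingEquiv (R := Y.residueField (p (j c)))
    (f := RingEquiv.ofBijective (j.residueFieldMap c).hom (residueFieldMap_bijective j c)) fun a => by
      show j.residueFieldMap c (p.residueFieldMap (j c) a) = (j ≫ p).residueFieldMap c a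
      rw [Scheme.residueFieldMap_comp]
      rfl
  exact Algebra.norm_eq_of_algEquiv e f

theorem finite_residueFieldMap_of_delta_eq (p₀ : X ⟶ Y) [LocallyOfFiniteType p₀] {δX : X → ℤ} {δY : Y → ℤ}
    (hδ : Cyc.DeltaCompat p₀ δX δY) {x : X} (hx : δX x = δY (p₀ x)) : (p₀.residueFieldMap x).hom.Finite := by
  obtain ⟨n, hn, hnx⟩ := hδ x
  have h0 : n = 0 := by omega
  subst h0
  letI := (p₀.residueFieldMap x).hom.toAlgebra
  haveI : Algebra.EssFiniteType (Y.residueField (p₀ x)) (X.residueField x) :=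
    RingHom.EssFiniteType.residueFieldMap (LocallyOfFiniteType.stalkMap p₀ x)
  haveI : Algebra.IsAlgebraic (Y.residueField (p₀ x)) (X.residueField x) := by
    rw [← trdeg_eq_zero_iff]
    exact hn.trans Nat.cast_zero
  exact Algebra.finite_of_essFiniteType_of_isAlgebraic

variable (p : X ⟶ Y) {δX : X → ℤ} {δY : Y → ℤ}

theorem delta_le_of_compat (hδ : Cyc.DeltaCompat p δX δY) (x : X) : δY (p x) ≤ δX x := by
  obtain ⟨n, -, hn⟩ := hδ x
  omega

/-- A fibre without proper specializations is finite. -/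
theorem finite_fibre [IsProper p] [IsLocallyNoetherian Y] (y : Y)
    (key : ∀ a b : X, a ⤳ b → p a = y → p b = y → a = b) : (p ⁻¹' {y}).Finite := by
  haveI : CompactSpace ↥(p.fiber y) := inferInstance
  haveI : LocallyOfFiniteType (p.fiberToSpecResidueField y) :=
    MorphismProperty.pullback_snd p (Y.fromSpecResidueField y) inferInstance
  haveI : IsLocallyNoetherian (p.fiber y) := LocallyOfFiniteType.isLocallyNoetherian (p.fiberToSpecResidueField y)
  haveI : IsNoetherian (p.fiber y) := {}
  have hmem : ∀ w : p.fiber y, p (p.fiberι y w) = y := fun w => by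
    have : p.fiberι y w ∈ p ⁻¹' {y} := p.range_fiberι y ▸ Set.mem_range_self w
    exact this
  have hsub : ∀ w w' : p.fiber y, w ⤳ w' → w = w' := fun w w' h =>
    (p.fiberι y).isEmbedding.injective (key _ _ (h.map (p.fiberι y).continuous) (hmem w) (hmem w'))
  haveI : Finite ↥(p.fiber y) := by
    have hfin := TopologicalSpace.NoetherianSpace.finite_irreducibleComponents (α := ↥(p.fiber y))
    haveI := hfin.to_subtype
    refine Finite.of_injective (fun w : p.fiber y =>
      (⟨irreducibleComponent w, irreducibleComponent_mem_irreducibleComponents w⟩ :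
        irreducibleComponents ↥(p.fiber y)))
      fun w w' h => ?_
    have h' : irreducibleComponent w = irreducibleComponent w' := congrArg Subtype.val h
    obtain ⟨g, hg⟩ := QuasiSober.sober (isIrreducible_irreducibleComponent (x := w)) isClosed_irreducibleComponent
    have h1 := hsub g w (hg.specializes mem_irreducibleComponent)
    have h2 := hsub g w' (hg.specializes (h' ▸ mem_irreducibleComponent))
    exact h1.symm.trans h2
  rw [← p.range_fiberι y]
  exact Set.finite_range _

/-- The pushforward sum over a fibre computed on a preimmersed scheme. -/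
theorem sum_divFun_transfer {C : Scheme.{u}} (j : C ⟶ X) [IsPreimmersion j] [IsLocallyNoetherian X]
    [IsLocallyNoetherian C] (hδX : Cyc.IsDimFun X δX) (hC : Cyc.IsDimFun C (δX ∘ j)) (c : C)
    {f : X.residueField (j c)} (hf : f ≠ 0) (y : Y)
    (hcov : ∀ x : X, j c ⤳ x → p x = y → x ∈ Set.range j) :
    ∑ᶠ x ∈ p ⁻¹' {y}, Cyc.divFun δX (j c) f x * (AlgebraicCycle.mapCoeff p δX δY x : ℤ) =
      ∑ᶠ z ∈ (j ≫ p) ⁻¹' {y}, Cyc.divFun (δX ∘ j) c (j.residueFieldMap c f) z *
        (AlgebraicCycle.mapCoeff (j ≫ p) (δX ∘ j) δY z : ℤ) := by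
  have h1 : ∀ z, Cyc.divFun (δX ∘ j) c (j.residueFieldMap c f) z *
      (AlgebraicCycle.mapCoeff (j ≫ p) (δX ∘ j) δY z : ℤ) =
      Cyc.divFun δX (j c) f (j z) * (AlgebraicCycle.mapCoeff p δX δY (j z) : ℤ) := fun z => by
    rw [divFun_preimmersion j hδX hC c z hf, mapCoeff_comp_eq]
  rw [finsum_mem_congr rfl fun z _ => h1 z,
    ← finsum_mem_image (g := j) (f := fun x => Cyc.divFun δX (j c) f x * (AlgebraicCycle.mapCoeff p δX δY x : ℤ))
      j.isEmbedding.injective.injOn]
  refine finsum_mem_inter_support_eq' _ _ _ fun x hx => ⟨fun hxy => ?_, ?_⟩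
  · have h2 : j c ⤳ x := by
      by_contra h
      rw [Function.mem_support, Cyc.divFun, dif_neg (fun h' => h h'.1), zero_mul] at hx
      exact hx rfl
    obtain ⟨z, rfl⟩ := hcov x h2 hxy
    exact ⟨z, hxy, rfl⟩
  · rintro ⟨z, hz, rfl⟩
    exact hz

theorem sum_divFun_of_delta_eq [IsProper p] [IsLocallyNoetherian X] [IsLocallyNoetherian Y]
    (hδX : Cyc.IsDimFun X δX) (hδY : Cyc.IsDimFun Y δY) (hδ : Cyc.DeltaCompat p δX δY)
    {C : Scheme.{u}} [IsIntegral C] [IsLocallyNoetherian C] (j : C ⟶ X) [IsPreimmersion j] [IsProper j]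
    (hC : Cyc.IsDimFun C (δX ∘ j)) {c : C} (hc : genericPoint C = c) {ξ : X} (hj : j c = ξ)
    (hrange : ∀ x, ξ ⤳ x → x ∈ Set.range j) {f : X.residueField ξ} (hf : f ≠ 0) {y : Y}
    (hd : δY y + 1 = δX ξ) (he : δX ξ = δY (p ξ)) :
    ∑ᶠ x ∈ p ⁻¹' {y}, Cyc.divFun δX ξ f x * (AlgebraicCycle.mapCoeff p δX δY x : ℤ) =
      Cyc.divFun δY (p ξ) (Cyc.normGen p ξ f) y := by
  subst hj
  rw [sum_divFun_transfer p j hδX hC c hf y fun x hx _ => hrange x hx,
    ← normGen_comp j p c f]
  let q := j ≫ p
  have hδq : Cyc.DeltaCompat q (δX ∘ j) δY := by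
    intro z
    obtain ⟨n, hn, hnz⟩ := hδ (j z)
    refine ⟨n, ?_, hnz⟩
    refine Eq.trans ?_ hn
    letI i1 : Algebra (Y.residueField (p (j z))) (X.residueField (j z)) := (p.residueFieldMap (j z)).hom.toAlgebra
    letI i2 : Algebra (Y.residueField (p (j z))) ((C).residueField z) := ((j ≫ p).residueFieldMap z).hom.toAlgebra
    exact (AlgEquiv.ofRingEquiv (R := Y.residueField (p (j z)))
      (f := RingEquiv.ofBijective (j.residueFieldMap z).hom (residueFieldMap_bijective j z)) fun a => by
        show j.residueFieldMap z (p.residueFieldMap (j z) a) = (j ≫ p).residueFieldMap z a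
        rw [Scheme.residueFieldMap_comp]
        rfl).trdeg_eq.symm
  have hfin : (q ⁻¹' {y}).Finite := by
    refine finite_fibre q y fun a b hab ha hb => ?_
    by_contra hne
    have h1 := (hC a b hab hne).1
    have hb1 := delta_le_of_compat q hδq b
    have hyb : δY y ≤ (δX ∘ j) b := by rw [← hb]; exact hb1
    have hac : c ≠ a := fun h => by
      have : δY (q c) = δY y := by rw [h, ha]
      have h2 : δY (p (j c)) = δY y := this
      omega
    have h2 := (hC c a (hc ▸ genericPoint_specializes a) hac).1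
    have h3 : (δX ∘ j) c = δX (j c) := rfl
    omega
  obtain ⟨W, hyW, hW⟩ := exists_isFinite_morphismRestrict_of_finite_preimage_singleton q y hfin
  obtain ⟨V, hV, hyV, hVW⟩ := exists_isAffineOpen_mem_and_subset (x := y) (U := W) hyW
  exact sum_divFun_eq_of_finOn q hC hδY hδq c
    ((map_ne_zero (j.residueFieldMap c).hom).2 hf) y hyV (finOn_of_restrict q hW hV hVW)

theorem sum_divFun_curve [IsProper p] [IsLocallyNoetherian X] [IsLocallyNoetherian Y]
    (hδX : Cyc.IsDimFun X δX) (hδ : Cyc.DeltaCompat p δX δY) {y : Y}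
    {C : Scheme.{u}} [IsIntegral C] [IsLocallyNoetherian C] (j : C ⟶ X) [IsPreimmersion j]
    (cK : C ⟶ Spec (Y.residueField y)) [IsProper cK] (e : j ≫ p = cK ≫ Y.fromSpecResidueField y)
    (hjy : ∀ z, p (j z) = y)
    (hC : Cyc.IsDimFun C (δX ∘ j)) {c : C} (hc : genericPoint C = c) {ξ : X} (hj : j c = ξ)
    (hrange : ∀ x, ξ ⤳ x → p x = y → x ∈ Set.range j) {f : X.residueField ξ} (hf : f ≠ 0)
    (hd : δY y + 1 = δX ξ) :
    ∑ᶠ x ∈ p ⁻¹' {y}, Cyc.divFun δX ξ f x * (AlgebraicCycle.mapCoeff p δX δY x : ℤ) = 0 := by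
  subst hj
  rw [sum_divFun_transfer p j hδX hC c hf y hrange]
  have hlow : ∀ z, δY y ≤ δX (j z) := fun z => hjy z ▸ delta_le_of_compat p hδ (j z)
  have hup : ∀ z, z ≠ c → δX (j z) + 1 = δX (j c) := fun z hz => by
    have h1 : δX (j z) < δX (j c) := (hC c z (hc ▸ genericPoint_specializes z) hz.symm).1
    have h2 := hlow z
    omega
  have hcl : ∀ a b : C, a ⤳ b → a ≠ genericPoint (C) → a = b := fun a b hab ha => by
    by_contra hne
    have h1 : δX (j b) < δX (j a) := (hC a b hab hne).1
    have h2 := hlow b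
    have h3 := hup a (hc ▸ ha)
    omega
  have hg : j.residueFieldMap c f ≠ 0 := (map_ne_zero (j.residueFieldMap c).hom).2 hf
  rw [show (j ≫ p) ⁻¹' {y} = Set.univ from Set.eq_univ_of_forall hjy, finsum_mem_univ]
  refine (finsum_congr fun z => ?_).trans (finsum_deg_divFun (Y.residueField y) cK hcl hc.symm hg)
  by_cases hz : z = c
  · subst hz
    rw [Cyc.divFun, dif_neg (fun h => by omega), zero_mul, Cyc.divFun, dif_neg (fun h => by omega), mul_zero]
  · have hiz : ind (C) z + 1 = ind (C) c := by simp [ind, hc, hz]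
    have hdeg : AlgebraicCycle.mapCoeff (j ≫ p) (δX ∘ j) δY z = cK.residueDegree z := by
      rw [show AlgebraicCycle.mapCoeff (j ≫ p) (δX ∘ j) δY z = (j ≫ p).residueDegree z from if_pos (by
        show δX (j z) = δY (p (j z))
        rw [hjy]
        have := hup z hz
        omega)]
      rw [e, GrothLib.CycBasic.residueDegree_comp,
        residueDegree_eq_one (Y.fromSpecResidueField y) (residueFieldMap_bijective _ _).2, one_mul]
    rw [hdeg, mul_comm, Cyc.divFun, Cyc.divFun]
    congr 1
    by_cases hs : c ⤳ z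
    · rw [dif_pos ⟨hs, hup z hz⟩, dif_pos ⟨hs, hiz⟩]
    · rw [dif_neg (fun h => hs h.1), dif_neg (fun h => hs h.1)]


open Classical in
/-- **Proper pushforward of a principal divisor.** -/
theorem sum_divFun_proper [IsProper p] [IsLocallyNoetherian X] [IsLocallyNoetherian Y]
    (hδX : Cyc.IsDimFun X δX) (hδY : Cyc.IsDimFun Y δY) (hδ : Cyc.DeltaCompat p δX δY) (ξ : X)
    {f : X.residueField ξ} (hf : f ≠ 0) (y : Y) :
    ∑ᶠ x ∈ p ⁻¹' {y}, Cyc.divFun δX ξ f x * (AlgebraicCycle.mapCoeff p δX δY x : ℤ) =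
      if δX ξ = δY (p ξ) then Cyc.divFun δY (p ξ) (Cyc.normGen p ξ f) y else 0 := by
  by_cases hh : p ξ ⤳ y ∧ δY y + 1 = δX ξ
  swap
  · rw [finsum_mem_eq_zero_of_forall_eq_zero]
    · split_ifs with he
      · rw [Cyc.divFun, dif_neg (he ▸ hh)]
      · rfl
    · intro x hx
      have hx' : p x = y := hx
      unfold AlgebraicCycle.mapCoeff
      split_ifs with he
      · rw [Cyc.divFun, dif_neg, zero_mul]
        exact fun h => hh ⟨hx' ▸ h.1.map p.continuous, by
          have : δX x = δY y := hx' ▸ he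
          omega⟩
      · rw [Nat.cast_zero, mul_zero]
  obtain ⟨hy, hd⟩ := hh
  by_cases he : δX ξ = δY (p ξ)
  · rw [if_pos he]
    -- restrict to the closure of `ξ`
    let j := clι ξ
    have hj : j (genericPoint (clSub ξ)) = ξ := clι_genericPoint ξ
    haveI : IsLocallyNoetherian (clSub ξ) := LocallyOfFiniteType.isLocallyNoetherian j
    have hC : Cyc.IsDimFun (clSub ξ) (δX ∘ j) := isDimFun_comp j hδX fun a b z ha _ =>
      (mem_range_clι ξ).2 (((mem_range_clι ξ).1 ⟨a, rfl⟩).trans ha)
    exact sum_divFun_of_delta_eq p hδX hδY hδ j hC rfl hj (fun x hx => (mem_range_clι ξ).2 hx) hf hd he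
  · rw [if_neg he]
    -- the curve case
    have hle := delta_le_of_compat p hδ ξ
    have hyξ : p ξ = y := by
      by_contra hne
      have := (hδY _ _ hy hne).1
      omega
    obtain ⟨w, hw⟩ : ξ ∈ Set.range (p.fiberι y) := by rw [p.range_fiberι]; exact hyξ
    let j := clι w ≫ p.fiberι y
    let cK : clSub w ⟶ Spec (Y.residueField y) := clι w ≫ p.fiberToSpecResidueField y
    haveI : IsProper (p.fiberToSpecResidueField y) :=
      MorphismProperty.pullback_snd p (Y.fromSpecResidueField y) inferInstance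
    haveI : IsProper cK := inferInstance
    haveI : IsLocallyNoetherian (clSub w) := LocallyOfFiniteType.isLocallyNoetherian cK
    have hjy : ∀ z, p (j z) = y := fun z => by
      have : p.fiberι y (clι w z) ∈ p ⁻¹' {y} := p.range_fiberι y ▸ Set.mem_range_self _
      exact this
    have hrange : ∀ x, ξ ⤳ x → p x = y → x ∈ Set.range j := fun x hx hxy => by
      obtain ⟨v, rfl⟩ : x ∈ Set.range (p.fiberι y) := by rw [p.range_fiberι]; exact hxy
      obtain ⟨z, rfl⟩ := (mem_range_clι w).2 ((p.fiberι y).isEmbedding.isInducing.specializes_iff.1 (hw ▸ hx))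
      exact ⟨z, rfl⟩
    have hj : j (genericPoint (clSub w)) = ξ := by
      show p.fiberι y (clι w (genericPoint (clSub w))) = ξ
      rw [clι_genericPoint, hw]
    have hC : Cyc.IsDimFun (clSub w) (δX ∘ j) := isDimFun_comp j hδX fun a b z ha hb => by
      refine hrange z ((hj ▸ (genericPoint_specializes a).map j.continuous).trans ha) ?_
      have h1 := ha.map p.continuous
      have h2 := hb.map p.continuous
      rw [hjy] at h1 h2
      exact (h2.antisymm h1).eq
    exact sum_divFun_curve p hδX hδ j cK (by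
      simp only [j, cK, Category.assoc]
      exact congrArg (clι w ≫ ·) pullback.condition) hjy hC rfl hj hrange hf hd

end GrothLib.CycPush
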