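import Groth.Agent.Lib.CycPush.Linear

/-!
Proper pushforward of a locally finite family of principal divisors.
-/

set_option autoImplicit false
universe u

open CategoryTheory AlgebraicGeometry

namespace GrothLib.CycPush

theorem finsum_mem_finset_comm {ι α : Type*} (I : Finset ι) (s : Set α) (F : ι → α → ℤ)
    (h : ∀ i ∈ I, (s ∩ Function.support (F i)).Finite) :
    ∑ᶠ x ∈ s, ∑ i ∈ I, F i x = ∑ i ∈ I, ∑ᶠ x ∈ s, F i x := by
  classical
  induction I using Finset.induction_on with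
  | empty => simp
  | @insert a I ha ih =>
    have h' : ∀ i ∈ I, (s ∩ Function.support (F i)).Finite := fun i hi => h i (Finset.mem_insert_of_mem hi)
    have hfin : (s ∩ Function.support fun x => ∑ i ∈ I, F i x).Finite :=
      (I.finite_toSet.biUnion h').subset fun x hx => by
        obtain ⟨i, hi, hne⟩ := Finset.exists_ne_zero_of_sum_ne_zero hx.2
        exact Set.mem_biUnion hi ⟨hx.1, hne⟩
    simp_rw [Finset.sum_insert ha]
    rw [finsum_mem_add_distrib' (h a (Finset.mem_insert_self a I)) hfin, ih h']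

open Classical in
theorem map_famCycle_apply {X Y : Scheme.{u}} (p : X ⟶ Y) [IsProper p] [IsLocallyNoetherian X]
    [IsLocallyNoetherian Y] {δX : X → ℤ} {δY : Y → ℤ} (hδX : Cyc.IsDimFun X δX) (hδY : Cyc.IsDimFun Y δY)
    (hδ : Cyc.DeltaCompat p δX δY) {ι : Type u} {ξ : ι → X} (f : (i : ι) → X.residueField (ξ i))
    (hf : ∀ i, f i ≠ 0)
    (hloc : ∀ x : X, ∃ U : Set X, IsOpen U ∧ x ∈ U ∧ {i | (closure {ξ i} ∩ U).Nonempty}.Finite) (y : Y) :
    AlgebraicCycle.map p δX δY (famCycle hδX f hf hloc) y =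
      ∑ᶠ i, if δX (ξ i) = δY (p (ξ i)) then Cyc.divFun δY (p (ξ i)) (Cyc.normGen p (ξ i) (f i)) y else 0 := by
  obtain ⟨V, hV, hy, -⟩ := exists_isAffineOpen_mem_and_subset (x := y) (U := ⊤) trivial
  have hKc : IsCompact ((p ⁻¹ᵁ V : X.Opens) : Set X) := p.isSpectralMap.2 V.2 hV.isCompact
  have hmemV : ∀ x, p x = y → x ∈ p ⁻¹ᵁ V := fun x hx => show p x ∈ V from hx ▸ hy
  let I := (GrothLib.CycPush.finite_of_locFin hloc hKc).toFinset
  have hI : ∀ i, ξ i ∈ p ⁻¹ᵁ V → i ∈ I := fun i hi =>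
    (GrothLib.CycPush.finite_of_locFin hloc hKc).mem_toFinset.2 ⟨ξ i, subset_closure rfl, hi⟩
  have hS : ∀ x, p x = y → ∑ᶠ i, Cyc.divFun δX (ξ i) (f i) x = ∑ i ∈ I, Cyc.divFun δX (ξ i) (f i) x :=
    fun x hx => finsum_eq_sum_of_support_subset _ fun i hi => hI i (by
      by_contra hc
      refine hi ?_
      show Cyc.divFun δX (ξ i) (f i) x = 0
      rw [Cyc.divFun, dif_neg]
      exact fun h' => hc (h'.1.mem_open (p ⁻¹ᵁ V).2 (hmemV x hx)))
  have hfi : ∀ i, (p ⁻¹' {y} ∩ Function.support fun x =>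
      Cyc.divFun δX (ξ i) (f i) x * (AlgebraicCycle.mapCoeff p δX δY x : ℤ)).Finite := fun i =>
    (GrothLib.CycPush.finite_mem_support hδX (p ⁻¹ᵁ V) hKc (ξ i) (hf i)).subset fun x hx =>
      ⟨hmemV x hx.1, fun h0 => hx.2 (by simp only [h0, zero_mul])⟩
  rw [map_apply, finsum_mem_congr rfl (g := fun x => ∑ i ∈ I,
    Cyc.divFun δX (ξ i) (f i) x * (AlgebraicCycle.mapCoeff p δX δY x : ℤ)) fun x hx => by
    rw [← Finset.sum_mul, ← hS x hx, famCycle_apply]]
  rw [finsum_mem_finset_comm I (p ⁻¹' {y}) (fun i x => Cyc.divFun δX (ξ i) (f i) x *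
    (AlgebraicCycle.mapCoeff p δX δY x : ℤ)) (fun i _ => hfi i),
    Finset.sum_congr rfl fun i _ => sum_divFun_proper p hδX hδY hδ (ξ i) (hf i) y]
  refine (finsum_eq_sum_of_support_subset _ fun i hi => hI i ?_).symm
  by_contra hc
  refine hi ?_
  show (if _ then _ else (0 : ℤ)) = 0
  split_ifs
  · rw [Cyc.divFun, dif_neg]
    exact fun h' => hc (h'.1.mem_open V.2 hy)
  · rfl

end GrothLib.CycPush
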