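import Groth.Agent.Lib.LengthDet
import Groth.Agent.Lib.CycDiv.Algebra
import Groth.Agent.S14503
import Mathlib.RingTheory.OrderOfVanishing.Noetherian
import Mathlib.RingTheory.Artinian.Ring

/-!
Norms and orders of vanishing in finite extensions of one-dimensional local domains.
-/

set_option autoImplicit false
universe u

open GrothLib.LengthDet IsLocalRing

namespace GrothLib.CycPush

section weighted

variable {A B : Type u} [CommRing A] [CommRing B] [Algebra A B] [IsNoetherianRing B]

/-- The length over `A` from the local lengths over `B`. -/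
theorem length_eq_sum_mul (M : Type u) [AddCommGroup M] [Module A M] [Module B M] [IsScalarTower A B M]
    [Module.Finite B M] (T : Finset (PrimeSpectrum B)) (hmax : ∀ q ∈ T, q.asIdeal.IsMaximal)
    (hsupp : ∀ q ∈ Module.support B M, q ∈ T) :
    Module.length A M = ∑ q ∈ T, locLen q M * Module.length A (B ⧸ q.asIdeal) := by
  classical
  revert hsupp
  revert ‹Module A M›
  induction ‹Module.Finite B M› using IsNoetherianRing.induction_on_isQuotientEquivQuotientPrime B with
  | subsingleton N =>
    intros
    rw [Module.length_eq_zero, Finset.sum_eq_zero fun q _ => by rw [locLen_zero q, zero_mul]]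
  | quotient N q e =>
    intro hm ht hsupp
    have hs : ∀ r, r ∈ Module.support B N ↔ q ≤ r := fun r => by
      rw [e.support_eq, Module.support_eq_zeroLocus, Ideal.annihilator_quotient]
      rfl
    have hqT : q ∈ T := hsupp q ((hs q).mpr le_rfl)
    have hqm := hmax q hqT
    rw [Finset.sum_eq_single q]
    · rw [locLen_congr q e, locLen_quot_self, one_mul, (e.restrictScalars A).length_eq]
    · intro r _ hr
      have hn : r ∉ Module.support B N := fun h => hr (PrimeSpectrum.ext (hqm.eq_of_le r.isPrime.ne_top ((hs r).mp h))).symm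
      have := Module.notMem_support_iff.mp hn
      rw [show locLen r N = 0 from Module.length_eq_zero, zero_mul]
    · exact fun h => absurd hqT h
  | exact B₁ B₂ B₃ f g hf hg hfg ih₁ ih₃ =>
    intro hm ht hsupp
    have hsup := Module.support_of_exact hfg hf hg
    letI m1 : Module A B₁ := Module.compHom B₁ (algebraMap A B)
    haveI : IsScalarTower A B B₁ := .of_algebraMap_smul fun _ _ => rfl
    letI m3 : Module A B₃ := Module.compHom B₃ (algebraMap A B)
    haveI : IsScalarTower A B B₃ := .of_algebraMap_smul fun _ _ => rfl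
    rw [Module.length_eq_add_of_exact (f.restrictScalars A) (g.restrictScalars A) hf hg hfg,
      @ih₁ m1 inferInstance fun q hq => hsupp q (hsup ▸ Set.mem_union_left _ hq),
      @ih₃ m3 inferInstance fun q hq => hsupp q (hsup ▸ Set.mem_union_right _ hq), ← Finset.sum_add_distrib]
    exact Finset.sum_congr rfl fun q _ => by rw [locLen_add q f g hf hg hfg, add_mul]

end weighted

theorem ordFrac_mul {A : Type u} [CommRing A] [IsDomain A] [IsNoetherianRing A] [Ring.KrullDimLE 1 A]
    (K : Type u) [Field K] [Algebra A K] [IsFractionRing A K] {x y : K} (hx : x ≠ 0) (hy : y ≠ 0) :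
    CycAlg.ordFrac A K (x * y) = CycAlg.ordFrac A K x + CycAlg.ordFrac A K y := by
  have h : IsNoetherianRing A ∧ Ring.KrullDimLE 1 A ∧ Nontrivial A ∧ IsFractionRing A K :=
    ⟨inferInstance, inferInstance, inferInstance, inferInstance⟩
  simp only [CycAlg.ordFrac, dif_pos h, map_mul]
  obtain ⟨a, ha⟩ := WithZero.ne_zero_iff_exists.1 ((map_ne_zero (Ring.ordFrac A (K := K))).2 hx)
  obtain ⟨b, hb⟩ := WithZero.ne_zero_iff_exists.1 ((map_ne_zero (Ring.ordFrac A (K := K))).2 hy)
  rw [← ha, ← hb, ← WithZero.coe_mul]
  rfl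

variable {A : Type u} [CommRing A] [IsDomain A] [IsNoetherianRing A] [IsLocalRing A]
  (hA : ringKrullDim A = 1) {B : Type u} [CommRing B] [IsDomain B] [Algebra A B]
  (hinj : Function.Injective (algebraMap A B)) [Module.Finite A B]
  (K L : Type u) [Field K] [Field L] [Algebra A K] [IsFractionRing A K] [Algebra B L]
  [IsFractionRing B L] [Algebra K L] [Algebra A L] [IsScalarTower A B L] [IsScalarTower A K L]
  [FiniteDimensional K L]

include hA hinj in
theorem ordFrac_norm_eq_sum (T : Finset (PrimeSpectrum B)) (hT : ∀ q, q ∈ T ↔ q.asIdeal.IsMaximal)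
    {u : B} (hu : u ≠ 0) :
    CycAlg.ordFrac A K (Algebra.norm K (algebraMap B L u)) =
      ∑ q ∈ T, ((locLen q (B ⧸ Ideal.span {u})).toNat : ℤ) * (Module.length A (B ⧸ q.asIdeal)).toNat := by
  classical
  obtain ⟨hfin, heq⟩ := Groth.Agent.S14503.result A hA B hinj K L u hu
  haveI : IsNoetherianRing B := IsNoetherianRing.of_finite A B
  rw [← heq]
  have hle : Module.length B (B ⧸ Ideal.span {u}) ≤ Module.length A (B ⧸ Ideal.span {u}) := by
    have h := Submodule.length_le_length_restrictScalars A (⊤ : Submodule B (B ⧸ Ideal.span {u}))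
    rwa [Submodule.restrictScalars_top, Module.length_top, Module.length_top] at h
  have hmax := isMaximal_of_mem_support (M := B ⧸ Ideal.span {u}) (lt_of_le_of_lt hle hfin)
  have hsum := length_eq_sum_mul (A := A) (B ⧸ Ideal.span {u}) T (fun q hq => (hT q).1 hq)
    fun q hq => (hT q).2 (hmax q hq)
  have hterm : ∀ q ∈ T, locLen q (B ⧸ Ideal.span {u}) * Module.length A (B ⧸ q.asIdeal) ≠ ⊤ := fun q hq h => by
    rw [hsum] at hfin
    exact hfin.ne (top_le_iff.1 (h ▸ Finset.single_le_sum (f := fun q : PrimeSpectrum B =>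
      locLen q (B ⧸ Ideal.span {u}) * Module.length A (B ⧸ q.asIdeal)) (fun _ _ => zero_le) hq))
  rw [hsum, Finset.sum_congr rfl fun q hq => (ENat.natCast_toNat (hterm q hq)).symm, ← Nat.cast_sum,
    ENat.toNat_coe, Nat.cast_sum]
  exact Finset.sum_congr rfl fun q _ => by rw [ENat.toNat_mul, Nat.cast_mul]

/-- The local length in a given model of the localization. -/
theorem locLen_eq_ord {B : Type u} [CommRing B] (q : PrimeSpectrum B) (S : Type u) [CommRing S]
    [Algebra B S] [IsLocalization.AtPrime S q.asIdeal] (u : B) :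
    locLen q (B ⧸ Ideal.span {u}) = Ring.ord S (algebraMap B S u) := by
  rw [locLen, GrothLib.CycDiv.length_localized_quot q.asIdeal S, Ideal.map_span, Set.image_singleton]
  rfl

end GrothLib.CycPush
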