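import Groth.Agent.Lib.CycPush.Algebra
import Groth.Agent.Lib.CycDiv.Support
import Groth.Agent.Lib.Altitude.Scheme
import Groth.Agent.Lib.Weight.GeomPoints
import Mathlib.AlgebraicGeometry.Morphisms.Finite

/-!
The semilocal ring of the closure of a point over a point of the base of a finite morphism.
-/

set_option autoImplicit false
universe u

open CategoryTheory AlgebraicGeometry IsLocalRing GrothLib.Altitude GrothLib.CycDiv

namespace GrothLib.CycPush

/-- `p` is finite over the affine open `V`. -/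
structure FinOn {X Y : Scheme.{u}} (p : X ⟶ Y) (V : Y.Opens) : Prop where
  affine : IsAffineOpen V
  affine' : IsAffineOpen (p ⁻¹ᵁ V)
  app : (p.app V).hom.Finite
  res : ∀ x ∈ p ⁻¹ᵁ V, (p.residueFieldMap x).hom.Finite
  fib : ∀ y ∈ V, (p ⁻¹' {y}).Finite

theorem finOn_of_isFinite {X Y : Scheme.{u}} (p : X ⟶ Y) [IsFinite p] {V : Y.Opens} (hV : IsAffineOpen V) :
    FinOn p V :=
  ⟨hV, hV.preimage p, IsFinite.finite_app (f := p) V hV,
    fun x _ => GrothLib.Weight.finite_residueFieldMap p x,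
    fun y _ => p.finite_preimage_singleton y⟩

variable {X Y : Scheme.{u}} (p : X ⟶ Y) {ξ : X} {y : Y} (h : p ξ ⤳ y) {V : Y.Opens} (hy : y ∈ V)

/-- the base ring acting on `κ(ξ)` -/
noncomputable def baseMap : Cyc.LocQuot y (p ξ) h →+* X.residueField ξ :=
  (p.residueFieldMap ξ).hom.comp (algebraMap (Cyc.LocQuot y (p ξ) h) (Y.residueField (p ξ)))

include h hy in
theorem memU : ξ ∈ p ⁻¹ᵁ V := h.mem_open V.2 hy

/-- values at `ξ` of sections over `p ⁻¹ V` -/
noncomputable def evU : Γ(X, p ⁻¹ᵁ V) →+* X.residueField ξ := evalAt _ ξ (memU p h hy)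

/-- sections over `V` in the base ring -/
noncomputable def evV : Γ(Y, V) →+* Cyc.LocQuot y (p ξ) h :=
  (Ideal.Quotient.mk _).comp (Y.presheaf.germ V y hy).hom

theorem baseMap_evV (r : Γ(Y, V)) : baseMap p h (evV p h hy r) = evU p h hy (p.app V r) := by
  have h1 : algebraMap (Cyc.LocQuot y (p ξ) h) (Y.residueField (p ξ)) (evV p h hy r) =
      evalAt V (p ξ) (h.mem_open V.2 hy) r := by
    show Y.residue (p ξ) ((Y.presheaf.stalkSpecializes h).hom ((Y.presheaf.germ V y hy).hom r)) = _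
    exact congrArg (Y.residue (p ξ)).hom (congr($(Y.presheaf.germ_stalkSpecializes hy h).hom r))
  rw [baseMap, RingHom.comp_apply, h1]
  exact Scheme.evaluation_naturality_apply p ξ (h.mem_open V.2 hy) r

/-- membership in the semilocal ring -/
def MemSemi (z : X.residueField ξ) : Prop :=
  ∃ s : Γ(Y, V), IsUnit (Y.presheaf.germ V y hy s) ∧
    ∃ b : Γ(X, p ⁻¹ᵁ V), z * evU p h hy (p.app V s) = evU p h hy b

theorem baseMap_mem (hV : IsAffineOpen V) (a : Cyc.LocQuot y (p ξ) h) : MemSemi p h hy (baseMap p h a) := by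
  obtain ⟨c, rfl⟩ := Ideal.Quotient.mk_surjective a
  letI := TopCat.Presheaf.algebra_section_stalk Y.presheaf ⟨y, hy⟩
  haveI := hV.isLocalization_stalk ⟨y, hy⟩
  obtain ⟨⟨r, s⟩, hrs⟩ := IsLocalization.surj (hV.primeIdealOf ⟨y, hy⟩).asIdeal.primeCompl c
  refine ⟨s, IsLocalization.map_units (Y.presheaf.stalk y) s, p.app V r, ?_⟩
  rw [← baseMap_evV, ← baseMap_evV, ← map_mul]
  exact congrArg (baseMap p h) ((map_mul (Ideal.Quotient.mk _) c _).symm.trans
    (congrArg (Ideal.Quotient.mk _) hrs))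

/-- the semilocal ring -/
noncomputable def semi (hV : IsAffineOpen V) : Subring (X.residueField ξ) :=
  { carrier := {z | MemSemi p h hy z}
    mul_mem' := by
      rintro a b ⟨s, hs, c, hc⟩ ⟨t, ht, d, hd⟩
      refine ⟨s * t, by rw [map_mul]; exact hs.mul ht, c * d, ?_⟩
      rw [map_mul, map_mul, map_mul, ← hc, ← hd]
      ring
    add_mem' := by
      rintro a b ⟨s, hs, c, hc⟩ ⟨t, ht, d, hd⟩
      refine ⟨s * t, by rw [map_mul]; exact hs.mul ht, c * p.app V t + d * p.app V s, ?_⟩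
      rw [map_mul, map_mul, map_add, map_mul, map_mul, ← hc, ← hd]
      ring
    one_mem' := by
      have := baseMap_mem p h hy hV 1
      rwa [map_one] at this
    zero_mem' := by
      have := baseMap_mem p h hy hV 0
      rwa [map_zero] at this
    neg_mem' := by
      rintro a ⟨s, hs, c, hc⟩
      exact ⟨s, hs, -c, by rw [neg_mul, hc, map_neg]⟩ }

/-- the base ring inside the semilocal ring -/
noncomputable def semiAlgebraMap (hV : IsAffineOpen V) : Cyc.LocQuot y (p ξ) h →+* semi p h hy hV :=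
  (baseMap p h).codRestrict _ (baseMap_mem p h hy hV)

noncomputable instance semiAlgebra (hV : IsAffineOpen V) :
    Algebra (Cyc.LocQuot y (p ξ) h) (semi p h hy hV) := (semiAlgebraMap p h hy hV).toAlgebra

instance (z : X) (w : X) (hz : w ⤳ z) : IsLocalRing (Cyc.LocQuot z w hz) :=
  IsLocalRing.of_surjective' _ Ideal.Quotient.mk_surjective

theorem mem_semi {hV : IsAffineOpen V} {z : X.residueField ξ} : z ∈ semi p h hy hV ↔ MemSemi p h hy z := Iff.rfl

theorem evU_mem (hV : IsAffineOpen V) (b : Γ(X, p ⁻¹ᵁ V)) : evU p h hy b ∈ semi p h hy hV :=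
  ⟨1, by rw [map_one]; exact isUnit_one, b, by rw [map_one, map_one, mul_one]⟩

/-- a section over `p ⁻¹ V` as an element of the semilocal ring -/
noncomputable def toSemi (hV : IsAffineOpen V) : Γ(X, p ⁻¹ᵁ V) →+* semi p h hy hV :=
  (evU p h hy).codRestrict _ (evU_mem p h hy hV)

@[simp] theorem coe_toSemi (hV : IsAffineOpen V) (b : Γ(X, p ⁻¹ᵁ V)) :
    (toSemi p h hy hV b : X.residueField ξ) = evU p h hy b := rfl

theorem finite_semi (hF : FinOn p V) :
    Module.Finite (Cyc.LocQuot y (p ξ) h) (semi p h hy hF.affine) := by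
  have hV := hF.affine
  letI : Algebra Γ(Y, V) Γ(X, p ⁻¹ᵁ V) := (p.app V).hom.toAlgebra
  haveI : Module.Finite Γ(Y, V) Γ(X, p ⁻¹ᵁ V) := hF.app
  obtain ⟨G, hG⟩ := Module.Finite.fg_top (R := Γ(Y, V)) (M := Γ(X, p ⁻¹ᵁ V))
  classical
  refine ⟨⟨G.image (toSemi p h hy hV), eq_top_iff.2 fun z _ => ?_⟩⟩
  obtain ⟨s, hs, b, hb⟩ := z.2
  have hall : ∀ b : Γ(X, p ⁻¹ᵁ V), toSemi p h hy hV b ∈
      Submodule.span (Cyc.LocQuot y (p ξ) h) (↑(G.image (toSemi p h hy hV)) : Set (semi p h hy hV)) := by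
    intro b
    have hb : b ∈ Submodule.span Γ(Y, V) (↑G : Set Γ(X, p ⁻¹ᵁ V)) := hG ▸ trivial
    induction hb using Submodule.span_induction with
    | mem x hx => exact Submodule.subset_span (Finset.mem_image_of_mem _ hx)
    | zero => rw [map_zero]; exact zero_mem _
    | add x y _ _ hx hy => rw [map_add]; exact add_mem hx hy
    | smul r x _ hx =>
      have : toSemi p h hy hV (r • x) = evV p h hy r • toSemi p h hy hV x := Subtype.ext (by
        show evU p h hy (p.app V r * x) = baseMap p h (evV p h hy r) * evU p h hy x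
        rw [map_mul, baseMap_evV])
      rw [this]
      exact Submodule.smul_mem _ _ hx
  have hu : IsUnit (evV p h hy s) := hs.map (Ideal.Quotient.mk _)
  have hz : z = (↑hu.unit⁻¹ : Cyc.LocQuot y (p ξ) h) • toSemi p h hy hV b := Subtype.ext (by
    show (z : X.residueField ξ) = baseMap p h ↑hu.unit⁻¹ * evU p h hy b
    rw [← hb, ← baseMap_evV, mul_left_comm, ← map_mul, IsUnit.val_inv_mul, map_one, mul_one])
  rw [hz]
  exact Submodule.smul_mem _ _ (hall b)

theorem injective_baseMap : Function.Injective (baseMap p h) :=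
  (p.residueFieldMap ξ).hom.injective.comp (injective_algebraMap_locQuot h)

theorem exists_semi_frac (hV : IsAffineOpen V) (hU : IsAffineOpen (p ⁻¹ᵁ V)) (z : X.residueField ξ) :
    ∃ u v : semi p h hy hV, (v : X.residueField ξ) ≠ 0 ∧ z * v = u := by
  obtain ⟨r, s, hs, hrs⟩ := evalAt_fractions hU ξ (memU p h hy) z
  exact ⟨toSemi p h hy hV r, toSemi p h hy hV s, hs, hrs⟩

theorem isFractionRing_semi (hV : IsAffineOpen V) (hU : IsAffineOpen (p ⁻¹ᵁ V)) :
    IsFractionRing (semi p h hy hV) (X.residueField ξ) := by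
  haveI : FaithfulSMul (semi p h hy hV) (X.residueField ξ) :=
    (faithfulSMul_iff_algebraMap_injective _ _).2 Subtype.val_injective
  refine IsFractionRing.of_field _ _ fun z => ?_
  obtain ⟨u, v, hv, huv⟩ := exists_semi_frac p h hy hV hU z
  refine ⟨u, v, ?_⟩
  show z = (u : X.residueField ξ) / (v : X.residueField ξ)
  rw [eq_div_iff hv]
  exact huv

section point

variable {x : X} (hx : p x = y) (hξ : ξ ⤳ x)

include hx hξ hy in
theorem memX : x ∈ p ⁻¹ᵁ V := show p x ∈ V from hx ▸ hy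

include h hy hx hξ

theorem evU_eq (b : Γ(X, p ⁻¹ᵁ V)) :
    evU p h hy b = Cyc.specMap x ξ hξ ((X.presheaf.germ _ x (memX p hy hx hξ)).hom b) := by
  show X.residue ξ ((X.presheaf.germ _ ξ (memU p h hy)).hom b) =
    X.residue ξ ((X.presheaf.stalkSpecializes hξ).hom ((X.presheaf.germ _ x (memX p hy hx hξ)).hom b))
  exact congrArg (X.residue ξ).hom
    (congr($(X.presheaf.germ_stalkSpecializes (memX p hy hx hξ) hξ).hom b)).symm

theorem isUnit_germ_app {s : Γ(Y, V)} (hs : IsUnit (Y.presheaf.germ V y hy s)) :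
    IsUnit (X.presheaf.germ (p ⁻¹ᵁ V) x (memX p hy hx hξ) (p.app V s)) := by
  subst hx
  rw [← Scheme.Hom.germ_stalkMap_apply p V x hy s]
  exact hs.map (p.stalkMap x).hom

theorem mem_range_locQuot (hV : IsAffineOpen V) (z : semi p h hy hV) :
    (z : X.residueField ξ) ∈ (algebraMap (Cyc.LocQuot x ξ hξ) (X.residueField ξ)).range := by
  obtain ⟨s, hs, b, hb⟩ := z.2
  have hu := isUnit_germ_app p h hy hx hξ hs
  refine ⟨Ideal.Quotient.mk _ ((X.presheaf.germ _ x (memX p hy hx hξ)).hom b * ↑hu.unit⁻¹), ?_⟩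
  rw [algebraMap_mk, map_mul, ← evU_eq p h hy hx hξ, ← hb, evU_eq p h hy hx hξ (p.app V s), mul_assoc,
    ← map_mul, IsUnit.mul_val_inv, map_one, mul_one]

/-- the semilocal ring maps to the local ring of the closure at a point over `y` -/
noncomputable def phi (hV : IsAffineOpen V) : semi p h hy hV →+* Cyc.LocQuot x ξ hξ :=
  (RingEquiv.ofBijective (algebraMap (Cyc.LocQuot x ξ hξ) (X.residueField ξ)).rangeRestrict
    ⟨fun _ _ e => injective_algebraMap_locQuot hξ (congrArg Subtype.val e),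
      RingHom.rangeRestrict_surjective _⟩).symm.toRingHom.comp
    ((semi p h hy hV).subtype.codRestrict _ (mem_range_locQuot p h hy hx hξ hV))

theorem algebraMap_phi (hV : IsAffineOpen V) (z : semi p h hy hV) :
    algebraMap (Cyc.LocQuot x ξ hξ) (X.residueField ξ) (phi p h hy hx hξ hV z) = z :=
  congrArg Subtype.val ((RingEquiv.ofBijective (algebraMap (Cyc.LocQuot x ξ hξ) (X.residueField ξ)).rangeRestrict
    ⟨fun _ _ e => injective_algebraMap_locQuot hξ (congrArg Subtype.val e),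
      RingHom.rangeRestrict_surjective _⟩).apply_symm_apply
        ⟨z, mem_range_locQuot p h hy hx hξ hV z⟩)

theorem phi_injective (hV : IsAffineOpen V) : Function.Injective (phi p h hy hx hξ hV) := fun a b e =>
  Subtype.ext (by rw [← algebraMap_phi p h hy hx hξ hV a, e, algebraMap_phi])

theorem phi_toSemi (hV : IsAffineOpen V) (b : Γ(X, p ⁻¹ᵁ V)) :
    phi p h hy hx hξ hV (toSemi p h hy hV b) =
      Ideal.Quotient.mk _ ((X.presheaf.germ _ x (memX p hy hx hξ)).hom b) :=
  injective_algebraMap_locQuot hξ (by rw [algebraMap_phi, coe_toSemi, evU_eq p h hy hx hξ]; rfl)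

omit h hy hx in
theorem isUnit_mk_iff {c : X.presheaf.stalk x} :
    IsUnit (Ideal.Quotient.mk (primeOf hξ) c) ↔ IsUnit c := by
  haveI : IsLocalHom (Ideal.Quotient.mk (primeOf hξ)) := .of_surjective _ Ideal.Quotient.mk_surjective
  exact ⟨fun hc => isUnit_of_map_unit _ _ hc, fun hc => hc.map _⟩

/-- the prime of the semilocal ring at a point over `y` -/
noncomputable def primeAt (hV : IsAffineOpen V) : PrimeSpectrum (semi p h hy hV) :=
  ⟨(maximalIdeal (Cyc.LocQuot x ξ hξ)).comap (phi p h hy hx hξ hV), Ideal.comap_isPrime _ _⟩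

theorem isLocalization_phi (hV : IsAffineOpen V) (hU : IsAffineOpen (p ⁻¹ᵁ V)) :
    letI := (phi p h hy hx hξ hV).toAlgebra
    IsLocalization.AtPrime (Cyc.LocQuot x ξ hξ) (primeAt p h hy hx hξ hV).asIdeal := by
  letI := (phi p h hy hx hξ hV).toAlgebra
  refine (isLocalization_iff _ _).2 ⟨fun c => by_contra fun hc => c.2 hc, fun z => ?_, fun {a b} e => ?_⟩
  · obtain ⟨c, rfl⟩ := Ideal.Quotient.mk_surjective z
    letI := TopCat.Presheaf.algebra_section_stalk X.presheaf ⟨x, memX p hy hx hξ⟩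
    haveI := hU.isLocalization_stalk ⟨x, memX p hy hx hξ⟩
    obtain ⟨⟨r, s⟩, hrs⟩ := IsLocalization.surj
      (hU.primeIdealOf ⟨x, memX p hy hx hξ⟩).asIdeal.primeCompl c
    have hsu : IsUnit ((X.presheaf.germ _ x (memX p hy hx hξ)).hom (s : Γ(X, p ⁻¹ᵁ V))) :=
      IsLocalization.map_units (X.presheaf.stalk x) s
    refine ⟨(toSemi p h hy hV r, ⟨toSemi p h hy hV s, fun hm => ?_⟩), ?_⟩
    · exact (show ¬IsUnit (phi p h hy hx hξ hV (toSemi p h hy hV s)) from hm)
        (by rw [phi_toSemi]; exact hsu.map _)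
    · show _ * phi p h hy hx hξ hV (toSemi p h hy hV s) = phi p h hy hx hξ hV (toSemi p h hy hV r)
      rw [phi_toSemi, phi_toSemi]
      exact (map_mul (Ideal.Quotient.mk _) c _).symm.trans (congrArg (Ideal.Quotient.mk _) hrs)
  · exact ⟨1, by rw [phi_injective p h hy hx hξ hV e]⟩

theorem comap_toSemi_primeAt (hV : IsAffineOpen V) (hU : IsAffineOpen (p ⁻¹ᵁ V)) :
    (primeAt p h hy hx hξ hV).asIdeal.comap (toSemi p h hy hV) =
      (hU.primeIdealOf ⟨x, memX p hy hx hξ⟩).asIdeal := by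
  ext b
  show phi p h hy hx hξ hV (toSemi p h hy hV b) ∈ maximalIdeal _ ↔ _
  rw [phi_toSemi, hU.primeIdealOf_eq_map_closedPoint, mem_maximalIdeal, mem_nonunits_iff,
    isUnit_mk_iff]
  rfl

end point

theorem ext_comap_toSemi (hV : IsAffineOpen V) {q q' : Ideal (semi p h hy hV)} [q.IsPrime] [q'.IsPrime]
    (e : q.comap (toSemi p h hy hV) = q'.comap (toSemi p h hy hV)) : q = q' := by
  have key : ∀ (a : Ideal (semi p h hy hV)) [a.IsPrime] (z : semi p h hy hV),
      ∀ s : Γ(Y, V), IsUnit (Y.presheaf.germ V y hy s) → ∀ b,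
        (z : X.residueField ξ) * evU p h hy (p.app V s) = evU p h hy b →
        (z ∈ a ↔ b ∈ a.comap (toSemi p h hy hV)) := by
    intro a _ z s hs b hb
    have hu : IsUnit (toSemi p h hy hV (p.app V s)) := by
      have : toSemi p h hy hV (p.app V s) = algebraMap _ (semi p h hy hV) (evV p h hy s) :=
        Subtype.ext (baseMap_evV p h hy s).symm
      rw [this]
      exact (hs.map (Ideal.Quotient.mk _)).map _
    rw [Ideal.mem_comap, show toSemi p h hy hV b = z * toSemi p h hy hV (p.app V s) from Subtype.ext hb.symm]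
    exact ⟨fun hz => Ideal.mul_mem_right _ _ hz, fun hz => ((‹a.IsPrime›).mem_or_mem hz).resolve_right
      fun h' => ‹a.IsPrime›.ne_top (Ideal.eq_top_of_isUnit_mem _ h' hu)⟩
  ext z
  obtain ⟨s, hs, b, hb⟩ := z.2
  rw [key q z s hs b hb, key q' z s hs b hb, e]

end GrothLib.CycPush
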